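import Groth.Agent.L21.FreeCurve.Homs
import Groth.Agent.L21.Disc.Push
import Groth.Agent.L21.Duality.Omega
import Groth.Agent.L05.EulerDiv.PowerFibre
import Groth.Agent.L20.ExtPull
import Groth.Agent.L16.ProjSpace.Basic
import Groth.Agent.L29.DCoh.TensorPerfect
import Groth.Agent.L15.PnHodge.ExtSeq

/-!
Vanishing of sections of tensor powers of exterior powers of differentials.
-/

set_option autoImplicit false
set_option backward.isDefEq.respectTransparency false
set_option backward.isDefEq.respectTransparency.types false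
set_option linter.style.haveILetI false
universe u

open CategoryTheory CategoryTheory.Limits AlgebraicGeometry TopologicalSpace Opposite
open Groth.L18.PUP (P pr)
open Groth.L00.Tensor (tensorUnitLeft tensorIso)

noncomputable section

namespace Groth.L21.FreeCurve

open Groth.L21.P1

variable {k : Type u} [Field k] {X : Scheme.{u}}

theorem isFinLocFree_pull {C : Scheme.{u}} (f : C ⟶ X) {M : X.Modules} (hM : FlatMod.IsFinLocFree M) :
    FlatMod.IsFinLocFree ((Scheme.Modules.pullback f).obj M) :=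
  Groth.L16.HomSh.isFinLocFree_of_bases fun z => by
    obtain ⟨V, n, b, -, hzV, -, hb⟩ := Groth.L19.ProjBdl.exists_basisOn hM (f z) ⊤ trivial
    exact ⟨_, n, _, hzV, hb.pullback f⟩

/-- The splitting exponents of the pulled back differentials. -/
theorem exists_diag_omega (p : X ⟶ Spec (CommRingCat.of k)) [QuasiSeparated p] [Smooth p] [IsIntegral X]
    (f : P 1 k ⟶ X) :
    ∃ (r : ℕ) (d : Fin r → ℤ), Diag k ((Scheme.Modules.pullback f).obj (Omega.sheaf p)) d := by
  haveI := Groth.L21.P1.isIntegral_P1 (k := k)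
  obtain ⟨r, hr⟩ := Groth.L21.Disc.exists_rank (isFinLocFree_pull f (Groth.L21.Duality.isFinLocFree_omega p))
  exact ⟨r, exists_diag hr⟩

/-- Tensor powers of diagonal bundles with negative exponents. -/
theorem exists_diag_tensorPow {F : (P 1 k).Modules} {r : ℕ} {d : Fin r → ℤ} (h : Diag k F d) (hd : ∀ l, d l < 0) :
    ∀ m : ℕ, ∃ (s : ℕ) (e : Fin s → ℤ), Diag k (CohB1.tensorPow F (m + 1)) e ∧ ∀ l, e l < 0
  | 0 => ⟨r, d, h.of_iso (tensorUnitLeft F).symm, hd⟩
  | m + 1 => by
    obtain ⟨s, e, he, hneg⟩ := exists_diag_tensorPow h hd m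
    refine ⟨_, _, he.tensor h, fun a => ?_⟩
    have h1 := hneg (finProdFinEquiv.symm a).1
    have h2 := hd (finProdFinEquiv.symm a).2
    omega

theorem isFinLocFree_tensorPow {E : X.Modules} (hE : FlatMod.IsFinLocFree E) :
    ∀ m : ℕ, FlatMod.IsFinLocFree (CohB1.tensorPow E m)
  | 0 => Groth.L16.Existence.isFinLocFree_of_isInvertible (Groth.L18.Ample.isInvertible_structureModule X)
  | m + 1 => Groth.L29.DC.isFinLocFree_tensor (isFinLocFree_tensorPow hE m) hE

/-- Sections of tensor powers of exterior powers of differentials vanish if the exponents of the exterior power are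
negative. -/
theorem subsingleton_tensorPow [IsAlgClosed k] [X.Over (Spec (CommRingCat.of k))]
    [QuasiSeparated (X ↘ Spec (CommRingCat.of k))] [IsIntegral X] [Smooth (X ↘ Spec (CommRingCat.of k))]
    (f : P 1 k ⟶ X) (hf : f ≫ (X ↘ Spec (CommRingCat.of k)) = pr 1 k) {r : ℕ} {d : Fin r → ℤ}
    (hV : Diag k ((Scheme.Modules.pullback f).obj (Omega.sheaf (X ↘ Spec (CommRingCat.of k)))) d)
    (hd : ∀ l, d l ≤ 0) {p : ℕ}
    (hneg : ∀ J : Fin p → Fin r, Function.Injective J → (∑ j, d (J j)) < 0) {E : X.Modules}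
    (hE : ExtPow.IsExtPow p (Omega.sheaf (X ↘ Spec (CommRingCat.of k))) E) {m : ℕ} (hm : 1 ≤ m) :
    Subsingleton (Coh.HH X (CohB1.tensorPow E m) 0) := by
  haveI := Groth.L21.P1.isIntegral_P1 (k := k)
  have hΩ := Groth.L21.Duality.isFinLocFree_omega (X ↘ Spec (CommRingCat.of k))
  haveI : Coh.IsQCoh (Omega.sheaf (X ↘ Spec (CommRingCat.of k))) :=
    (Groth.L15.OmegaCoh.isCoh_omega (X ↘ Spec (CommRingCat.of k))).1
  obtain ⟨m, rfl⟩ : ∃ n, m = n + 1 := ⟨m - 1, by omega⟩
  obtain ⟨ks, hL⟩ := hV.extPow (Groth.L20.ExtPull.isExtPow_pullback f hE)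
  obtain ⟨s, e, he, hneg'⟩ := exists_diag_tensorPow hL (fun a => hneg _ (Groth.L18.PlkAlg.K_injective ks a)) m
  obtain ⟨i⟩ := Groth.L05.EulerDiv.nonempty_pullback_tensorPow f E (m + 1)
  have h0 : ∀ t : Γ((Scheme.Modules.pullback f).obj (CohB1.tensorPow E (m + 1)), ⊤), t = 0 :=
    (he.of_iso i.symm).eq_zero hneg'
  obtain ⟨D, hD, -⟩ := exists_homs hV hd
  have hfree := isFinLocFree_tensorPow (Groth.L12.ExtSh.isFinLocFree_of_isExtPow hΩ hE) (m + 1)
  have hall : ∀ s : Γ(CohB1.tensorPow E (m + 1), ⊤), s = 0 := eq_zero_of_free hf hfree h0 D hD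
  haveI : Subsingleton Γ(CohB1.tensorPow E (m + 1), ⊤) := ⟨fun a b => (hall a).trans (hall b).symm⟩
  exact (Groth.L21.RR.e0 (CohB1.tensorPow E (m + 1))).toEquiv.subsingleton

end Groth.L21.FreeCurve
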