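import Groth.Agent.L21.FreeCurve.Trunc
import Groth.Agent.L25.GeomIrred
import Mathlib.Algebra.MvPolynomial.Funext
import Mathlib.RingTheory.MvPolynomial.Homogeneous
import Mathlib.RingTheory.Filtration
import Mathlib.RingTheory.Kaehler.Basic
import Mathlib.RingTheory.EssentialFiniteness

/-!
Functions killed by all arcs through a generic point with spanning velocities vanish.
-/

set_option autoImplicit false
set_option backward.isDefEq.respectTransparency false
set_option linter.style.haveILetI false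
universe u

open TensorProduct

noncomputable section

namespace Groth.L21.FreeCurve

variable {k B K : Type u} [Field k] [CommRing B] [Algebra k B] [Field K] [Algebra k K] (φ : B →ₐ[k] K)

/-- The evaluation at the graph point. -/
def kap : K ⊗[k] B →ₐ[k] K := Algebra.TensorProduct.lift (AlgHom.id k K) φ fun _ _ => Commute.all _ _

/-- The ideal of the graph. -/
def J : Ideal (K ⊗[k] B) := RingHom.ker (kap φ)

/-- The inclusion of `B`. -/
def inB : B →ₐ[k] K ⊗[k] B := Algebra.TensorProduct.includeRight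

/-- The inclusion of `K`. -/
def inK : K →ₐ[k] K ⊗[k] B := Algebra.TensorProduct.includeLeft

theorem kap_inB (b : B) : kap φ (inB b) = φ b := by simp [kap, inB]

theorem kap_inK (a : K) : kap φ (inK (B := B) a) = a := by simp [kap, inK]

theorem sub_inK_mem (u : K ⊗[k] B) : u - inK (kap φ u) ∈ J φ := by
  rw [J, RingHom.mem_ker, map_sub, kap_inK, sub_self]

/-- The coordinate differences. -/
def yv {n : ℕ} (x : Fin n → B) (i : Fin n) : K ⊗[k] B := inB (x i) - inK (φ (x i))

theorem yv_mem {n : ℕ} (x : Fin n → B) (i : Fin n) : yv φ x i ∈ J φ := by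
  rw [J, RingHom.mem_ker, yv, map_sub, kap_inB, kap_inK, sub_self]

section Expansion

variable {n : ℕ} (x : Fin n → B)
  (hx : Submodule.span B (Set.range fun i => KaehlerDifferential.D k B (x i)) = ⊤)

include hx in
/-- The coordinate differences generate the graph ideal modulo its square. -/
theorem J_le : J φ ≤ Ideal.span (Set.range (yv φ x)) ⊔ J φ ^ 2 := by
  set I := Ideal.span (Set.range (yv φ x)) ⊔ J φ ^ 2 with hI
  letI : Algebra B (K ⊗[k] B ⧸ I) := ((Ideal.Quotient.mk I).comp (inB (K := K)).toRingHom).toAlgebra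
  haveI : IsScalarTower k B (K ⊗[k] B ⧸ I) := IsScalarTower.of_algebraMap_eq fun c => by
    show _ = Ideal.Quotient.mk I (inB (algebraMap k B c))
    rw [AlgHom.commutes]
    rfl
  let δ₀ : B →ₗ[k] K ⊗[k] B ⧸ I :=
    (Ideal.Quotient.mkₐ k I).toLinearMap.comp ((inB (K := K)).toLinearMap - (inK.comp φ).toLinearMap)
  have hδ₀ : ∀ b, δ₀ b = Ideal.Quotient.mk I (inB b - inK (φ b)) := fun b => rfl
  let δ : Derivation k B (K ⊗[k] B ⧸ I) := Derivation.mk' δ₀ fun b b' => by
    rw [hδ₀, hδ₀, hδ₀, Algebra.smul_def, Algebra.smul_def,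
      show algebraMap B (K ⊗[k] B ⧸ I) b = Ideal.Quotient.mk I (inB b) from rfl,
      show algebraMap B (K ⊗[k] B ⧸ I) b' = Ideal.Quotient.mk I (inB b') from rfl,
      ← map_mul, ← map_mul, ← map_add, Ideal.Quotient.eq]
    have h2 : (inB b - inK (φ b)) * (inB b' - inK (φ b')) ∈ J φ ^ 2 := by
      rw [pow_two]
      exact Ideal.mul_mem_mul (by rw [J, RingHom.mem_ker, map_sub, kap_inB, kap_inK, sub_self])
        (by rw [J, RingHom.mem_ker, map_sub, kap_inB, kap_inK, sub_self])
    convert Submodule.mem_sup_right (S := Ideal.span (Set.range (yv φ x))) (Ideal.neg_mem_iff _ |>.2 h2) using 1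
    simp only [map_mul]
    ring
  have hzero : δ.liftKaehlerDifferential = 0 := by
    refine LinearMap.ext_on hx ?_
    rintro _ ⟨i, rfl⟩
    rw [Derivation.liftKaehlerDifferential_comp_D, LinearMap.zero_apply]
    exact Ideal.Quotient.eq_zero_iff_mem.2 (Submodule.mem_sup_left (Ideal.subset_span ⟨i, rfl⟩))
  have hb : ∀ b, inB b - inK (φ b) ∈ I := fun b => by
    have := Derivation.liftKaehlerDifferential_comp_D δ b
    rw [hzero, LinearMap.zero_apply] at this
    exact Ideal.Quotient.eq_zero_iff_mem.1 this.symm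
  have hall : ∀ u : K ⊗[k] B, u - inK (kap φ u) ∈ I := by
    intro u
    induction u using TensorProduct.induction_on with
    | zero => simp
    | add v w hv hw =>
      rw [map_add, map_add, add_sub_add_comm]
      exact add_mem hv hw
    | tmul a b =>
      have e : a ⊗ₜ[k] b = inK a * inB b := by simp [inK, inB]
      rw [e, map_mul, kap_inK, kap_inB, map_mul, ← mul_sub]
      exact Ideal.mul_mem_left _ _ (hb b)
  intro u hu
  have := hall u
  rwa [show kap φ u = 0 from hu, map_zero, sub_zero] at this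

/-- Evaluation of a polynomial with coefficients in `K` at the coordinate differences. -/
def evy : MvPolynomial (Fin n) K →+* K ⊗[k] B := MvPolynomial.eval₂Hom (inK : K →ₐ[k] _).toRingHom (yv φ x)

theorem evy_mem {r : ℕ} {P : MvPolynomial (Fin n) K} (hP : P.IsHomogeneous r) : evy φ x P ∈ J φ ^ r := by
  rw [P.as_sum, map_sum]
  refine Ideal.sum_mem _ fun d hd => ?_
  rw [evy, MvPolynomial.eval₂Hom_monomial]
  refine Ideal.mul_mem_left _ _ ?_
  have hr : d.sum (fun _ e => e) = r := by
    have := hP (MvPolynomial.mem_support_iff.1 hd)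
    rwa [Finsupp.weight_apply, Finsupp.sum_congr (g2 := fun _ e => e) (by simp)] at this
  rw [← hr, Finsupp.prod, Finsupp.sum, ← Finset.prod_pow_eq_pow_sum]
  exact Ideal.prod_mem_prod fun i _ => Ideal.pow_mem_pow (yv_mem φ x i) _

include hx in
theorem exists_poly_one (u : K ⊗[k] B) (hu : u ∈ J φ) :
    ∃ P : MvPolynomial (Fin n) K, P.IsHomogeneous 1 ∧ u - evy φ x P ∈ J φ ^ 2 := by
  obtain ⟨v, hv, w, hw, rfl⟩ := Submodule.mem_sup.1 (J_le φ x hx hu)
  obtain ⟨a, rfl⟩ := Ideal.mem_span_range_iff_exists_fun.1 hv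
  refine ⟨∑ i, MvPolynomial.C (kap φ (a i)) * MvPolynomial.X i,
    MvPolynomial.IsHomogeneous.sum _ _ _ fun i _ => MvPolynomial.isHomogeneous_C_mul_X _ _, ?_⟩
  rw [map_sum, add_sub_right_comm, ← Finset.sum_sub_distrib]
  refine add_mem (Ideal.sum_mem _ fun i _ => ?_) hw
  rw [evy, map_mul, MvPolynomial.eval₂Hom_C, MvPolynomial.eval₂Hom_X', ← sub_mul, pow_two]
  exact Ideal.mul_mem_mul (sub_inK_mem φ _) (yv_mem φ x i)

include hx in
/-- Elements of `J^r` are homogeneous polynomials in the coordinate differences modulo `J^(r+1)`. -/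
theorem exists_poly : ∀ (r : ℕ) (u : K ⊗[k] B), u ∈ J φ ^ r →
    ∃ P : MvPolynomial (Fin n) K, P.IsHomogeneous r ∧ u - evy φ x P ∈ J φ ^ (r + 1) := by
  intro r
  induction r with
  | zero =>
    intro u _
    refine ⟨MvPolynomial.C (kap φ u), MvPolynomial.isHomogeneous_C _ _, ?_⟩
    rw [evy, MvPolynomial.eval₂Hom_C, zero_add, pow_one]
    exact sub_inK_mem φ u
  | succ r ih =>
    intro u hu
    rw [pow_succ] at hu
    refine Submodule.mul_induction_on hu (fun a ha b hb => ?_) ?_
    · obtain ⟨P, hP, hPa⟩ := ih a ha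
      obtain ⟨L, hL, hLb⟩ := exists_poly_one φ x hx b hb
      refine ⟨P * L, hP.mul hL, ?_⟩
      have e : a * b - evy φ x (P * L) = (a - evy φ x P) * b + evy φ x P * (b - evy φ x L) := by
        rw [map_mul]; ring
      rw [e]
      refine add_mem ?_ ?_
      · rw [pow_succ (J φ) (r + 1)]
        exact Ideal.mul_mem_mul hPa hb
      · rw [show r + 1 + 1 = r + 2 from rfl, pow_add]
        exact Ideal.mul_mem_mul (evy_mem φ x hP) hLb
    · rintro a b ⟨P, hP, hPa⟩ ⟨L, hL, hLb⟩
      exact ⟨P + L, hP.add hL, by rw [map_add, add_sub_add_comm]; exact add_mem hPa hLb⟩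

end Expansion

section Arcs

variable {N : ℕ}

/-- The value of an arc on the tensor product. -/
def Gam (γ : B →ₐ[k] Q K N) : K ⊗[k] B →+* Q K N :=
  (Algebra.TensorProduct.lift (AlgHom.mk (cst N) fun _ => rfl : K →ₐ[k] Q K N) γ fun _ _ => Commute.all _ _).toRingHom

theorem Gam_inB (γ : B →ₐ[k] Q K N) (b : B) : Gam γ (inB b) = γ b := by simp [Gam, inB]

theorem Gam_inK (γ : B →ₐ[k] Q K N) (a : K) : Gam γ (inK (B := B) a) = cst N a := by simp [Gam, inK]

theorem cf0_Gam (hN : 0 < N) {γ : B →ₐ[k] Q K N} (hγ : ∀ b, cf N 0 (γ b) = φ b) (u : K ⊗[k] B) :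
    cf N 0 (Gam γ u) = kap φ u := by
  induction u using TensorProduct.induction_on with
  | zero => rw [map_zero, map_zero, cf_zero]
  | add v w hv hw => rw [map_add, map_add, cf_add, hv, hw]
  | tmul a b =>
    have e : a ⊗ₜ[k] b = inK a * inB b := by simp [inK, inB]
    rw [e, map_mul, map_mul, kap_inK, kap_inB, Gam_inK, Gam_inB]
    exact ((cf0 hN).map_mul _ _).trans (congrArg₂ (· * ·) (cf_cst hN a) (hγ b))

theorem eps_pow_dvd (hN : 0 < N) {γ : B →ₐ[k] Q K N} (hγ : ∀ b, cf N 0 (γ b) = φ b) {r : ℕ}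
    {u : K ⊗[k] B} (hu : u ∈ J φ ^ r) : eps N ^ r ∣ Gam γ u := by
  have h1 : (J φ).map (Gam γ) ≤ Ideal.span {eps N} := by
    rw [Ideal.map_le_iff_le_comap]
    intro v hv
    rw [Ideal.mem_comap, Ideal.mem_span_singleton]
    exact eps_dvd_of_cf0 hN (by rw [cf0_Gam φ hN hγ]; exact hv)
  have h2 := Ideal.pow_right_mono h1 r
  rw [Ideal.span_singleton_pow, ← Ideal.map_pow] at h2
  exact Ideal.mem_span_singleton.1 (h2 (Ideal.mem_map_of_mem _ hu))

theorem cf_Gam_of_mem_succ {r : ℕ} (hN : r < N) {γ : B →ₐ[k] Q K N} (hγ : ∀ b, cf N 0 (γ b) = φ b)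
    {u : K ⊗[k] B} (hu : u ∈ J φ ^ (r + 1)) : cf N r (Gam γ u) = 0 := by
  obtain ⟨w, hw⟩ := eps_pow_dvd φ (γ := γ) (by omega) hγ hu
  rw [hw, pow_succ, mul_assoc, cf_eps_pow_mul hN]
  obtain ⟨p, rfl⟩ := exists_rep w
  rw [eps, ← map_mul, cf_mk (by omega), Polynomial.coeff_X_mul_zero]

variable {n : ℕ} {x : Fin n → B}

theorem cf_Gam_evy {r : ℕ} (hN : r + 1 < N) {γ : B →ₐ[k] Q K N} (hγ : ∀ b, cf N 0 (γ b) = φ b)
    {P : MvPolynomial (Fin n) K} (hP : P.IsHomogeneous r) :
    cf N r (Gam γ (evy φ x P)) = MvPolynomial.eval (fun i => cf N 1 (γ (x i))) P := by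
  choose z hz using fun i => eps_dvd_of_cf0 (n := N) (u := Gam γ (yv φ x i)) (by omega)
    (by rw [cf0_Gam φ (by omega) hγ]; exact yv_mem φ x i)
  have hz0 : ∀ i, cf N 0 (z i) = cf N 1 (γ (x i)) := fun i => by
    have h1 : cf N 1 (Gam γ (yv φ x i)) = cf N 1 (γ (x i)) := by
      rw [yv, map_sub, Gam_inB, Gam_inK, sub_eq_add_neg, cf_add, ← map_neg, cf_one_cst (by omega), add_zero]
    rw [← h1, hz i]
    conv_rhs => rw [← pow_one (eps N), cf_eps_pow_mul (by omega)]
  have hcomp : Gam γ (evy φ x P) = eps N ^ r * MvPolynomial.eval₂ (cst N) z P := by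
    rw [evy, MvPolynomial.coe_eval₂Hom, MvPolynomial.eval₂_comp_left,
      show (Gam γ).comp (inK : K →ₐ[k] K ⊗[k] B).toRingHom = cst N from RingHom.ext (Gam_inK γ),
      show Gam γ ∘ yv φ x = fun i => eps N * z i from funext hz]
    rw [MvPolynomial.eval₂_eq, MvPolynomial.eval₂_eq, Finset.mul_sum]
    refine Finset.sum_congr rfl fun d hd => ?_
    have hr : ∑ i ∈ d.support, d i = r := by
      have := hP (MvPolynomial.mem_support_iff.1 hd)
      rwa [Finsupp.weight_apply, Finsupp.sum_congr (g2 := fun _ e => e) (by simp), Finsupp.sum] at this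
    simp only [mul_pow, Finset.prod_mul_distrib, Finset.prod_pow_eq_pow_sum, hr]
    ring
  rw [hcomp, cf_eps_pow_mul (by omega)]
  show cf0 (by omega) (MvPolynomial.eval₂ (cst N) z P) = _
  rw [MvPolynomial.eval₂_comp_left, show (cf0 (by omega : 0 < N)).comp (cst N) = RingHom.id K from
    RingHom.ext fun a => cf_cst (by omega) a, MvPolynomial.eval₂_id]
  exact congrArg (fun g => MvPolynomial.eval g P) (funext hz0)

/-- The leading coefficient only depends on the velocity. -/
theorem cf_Gam_congr (hx : Submodule.span B (Set.range fun i => KaehlerDifferential.D k B (x i)) = ⊤) {r : ℕ}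
    (hN : r + 1 < N) {γ γ' : B →ₐ[k] Q K N} (hγ : ∀ b, cf N 0 (γ b) = φ b) (hγ' : ∀ b, cf N 0 (γ' b) = φ b)
    (h1 : ∀ i, cf N 1 (γ (x i)) = cf N 1 (γ' (x i))) {u : K ⊗[k] B} (hu : u ∈ J φ ^ r) :
    cf N r (Gam γ u) = cf N r (Gam γ' u) := by
  obtain ⟨P, hP, hPu⟩ := exists_poly φ x hx r u hu
  have key : ∀ g : B →ₐ[k] Q K N, (∀ b, cf N 0 (g b) = φ b) →
      cf N r (Gam g u) = MvPolynomial.eval (fun i => cf N 1 (g (x i))) P := fun g hg => by
    have e : u = evy φ x P + (u - evy φ x P) := by ring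
    rw [e, map_add, cf_add, cf_Gam_evy φ hN hg hP, cf_Gam_of_mem_succ φ (by omega) hg hPu, add_zero]
  rw [key γ hγ, key γ' hγ', funext h1]

/-- If the leading coefficient vanishes for all velocities in a spanning `k`-space, the order grows. -/
theorem mem_pow_succ [Infinite k] (hx : Submodule.span B (Set.range fun i => KaehlerDifferential.D k B (x i)) = ⊤)
    {r : ℕ} (hN : r + 1 < N) {m : ℕ} (v : Fin m → Fin n → K) (hv : Submodule.span K (Set.range v) = ⊤)
    (γ : (Fin m → k) → (B →ₐ[k] Q K N)) (hγ : ∀ a b, cf N 0 (γ a b) = φ b)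
    (hvel : ∀ a i, cf N 1 (γ a (x i)) = ∑ l, algebraMap k K (a l) * v l i)
    {u : K ⊗[k] B} (hu : u ∈ J φ ^ r) (h0 : ∀ a, cf N r (Gam (γ a) u) = 0) : u ∈ J φ ^ (r + 1) := by
  obtain ⟨P, hP, hPu⟩ := exists_poly φ x hx r u hu
  haveI : Infinite K := Infinite.of_injective _ (algebraMap k K).injective
  suffices P = 0 by simpa [this] using hPu
  let T : MvPolynomial (Fin m) K :=
    MvPolynomial.eval₂ MvPolynomial.C (fun i => ∑ l, MvPolynomial.C (v l i) * MvPolynomial.X l) P
  have hT : ∀ a : Fin m → K, MvPolynomial.eval a T = MvPolynomial.eval (fun i => ∑ l, v l i * a l) P := fun a => by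
    rw [MvPolynomial.eval₂_comp_left, show (MvPolynomial.eval a).comp MvPolynomial.C = RingHom.id K from
      RingHom.ext fun c => MvPolynomial.eval_C _, MvPolynomial.eval₂_id]
    refine congrArg (fun g => MvPolynomial.eval g P) (funext fun i => ?_)
    simp
  have hT0 : T = 0 := by
    refine MvPolynomial.funext_set (fun _ => Set.range (algebraMap k K))
      (fun _ => Set.infinite_range_of_injective (algebraMap k K).injective) fun a ha => ?_
    choose b hb using fun l => ha l trivial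
    rw [map_zero, hT, show (fun i => ∑ l, v l i * a l) = fun i => cf N 1 (γ b (x i)) from funext fun i => by
      rw [hvel]
      exact Finset.sum_congr rfl fun l _ => by rw [hb l, mul_comm], ← cf_Gam_evy φ hN (hγ b) hP]
    have e : evy φ x P = u - (u - evy φ x P) := by ring
    rw [e, map_sub, sub_eq_add_neg, cf_add, h0 b, zero_add, ← map_neg]
    exact cf_Gam_of_mem_succ φ (by omega) (hγ b) (neg_mem hPu)
  refine MvPolynomial.funext fun d => ?_
  obtain ⟨a, ha⟩ := (Submodule.mem_span_range_iff_exists_fun K).1 (hv.ge (Submodule.mem_top (x := d)))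
  rw [map_zero, ← ha, show (∑ l, a l • v l) = fun i => ∑ l, v l i * a l from funext fun i => by
    simp [Finset.sum_apply, mul_comm], ← hT, hT0, map_zero]

end Arcs

/-- Krull intersection on the graph. -/
theorem eq_zero_of_forall_pow [IsAlgClosed k] [IsDomain B] [Algebra.EssFiniteType k B] {s : B}
    (h : ∀ r, inB (K := K) s ∈ J φ ^ r) : s = 0 := by
  haveI : IsDomain (K ⊗[k] B) := Groth.L25.GeomIrred.isDomain_tensorProduct
  haveI : IsNoetherianRing (K ⊗[k] B) := Algebra.EssFiniteType.isNoetherianRing K (K ⊗[k] B)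
  obtain ⟨j, hj⟩ := ((J φ).mem_iInf_smul_pow_eq_bot_iff (inB (K := K) s)).1
    ((Submodule.mem_iInf _).2 fun r => by rw [smul_eq_mul, Ideal.mul_top]; exact h r)
  rw [smul_eq_mul] at hj
  rcases mul_eq_zero.1 (show (1 - (j : K ⊗[k] B)) * inB s = 0 by rw [sub_mul, one_mul, hj, sub_self]) with h1 | h1
  · have h2 := congrArg (kap φ) h1
    rw [map_sub, map_one, show kap φ (j : K ⊗[k] B) = 0 from j.2, sub_zero, map_zero] at h2
    exact absurd h2 one_ne_zero
  · exact Algebra.TensorProduct.includeRight_injective (algebraMap k K).injective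
      (h1.trans (map_zero (inB (K := K))).symm)

end Groth.L21.FreeCurve
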