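import Groth.Agent.L21.FreeCurve.Local
import Groth.Agent.L21.Mod.Locality
import Groth.Agent.L15.SecOrd
import Groth.Agent.L16.HomSh.FreeFrames

/-!
A vector bundle with no sections on a free curve has no sections.
-/

set_option autoImplicit false
set_option backward.isDefEq.respectTransparency false
set_option backward.isDefEq.respectTransparency.types false
set_option linter.style.haveILetI false
universe u

open CategoryTheory CategoryTheory.Limits AlgebraicGeometry TopologicalSpace Opposite
open OmegaSh (dSect)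
open Groth.L18.Frame (rs ro pull pull_rs pull_smul)
open Groth.L19.ProjBdl (IsBasisOn coord lc lc_coord)
open Groth.L22.ZeroLocus (stalkBasis stalkBasis_apply)
open Groth.L07.SyntOverField (toStalk toStalk_eq)
open Groth.L12.FrobLift (baseHom)
open Groth.L21.RR (st st_germ)

noncomputable section

namespace Groth.L21.FreeCurve

/-- Sections of a locally free module on an integral scheme are determined at the generic point. -/
theorem germ_generic_injective {C : Scheme.{u}} [IsIntegral C] {M : C.Modules} (hM : FlatMod.IsFinLocFree M)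
    {U : C.Opens} (hU : genericPoint C ∈ U) : Function.Injective (M.presheaf.germ U (genericPoint C) hU) := by
  refine (injective_iff_map_eq_zero _).2 fun (s : Γ(M, U)) hs => ?_
  refine TopCat.Presheaf.section_ext ⟨M.presheaf, M.isSheaf⟩ U s 0 fun z hz => ?_
  rw [map_zero]
  obtain ⟨V, n, b, -, hzV, hVU, hb⟩ := Groth.L19.ProjBdl.exists_basisOn hM z U hz
  have hηV : genericPoint C ∈ V := ((genericPoint_spec C).specializes trivial).mem_open V.2 hzV
  let B := stalkBasis hb hηV
  have e := congrArg (M.presheaf.germ V (genericPoint C) hηV) (lc_coord hb le_rfl (rs M hVU s))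
  rw [Groth.L20.ModStalk.germ_rs, hs, lc, map_sum] at e
  have e2 : ∑ i, C.presheaf.germ V (genericPoint C) hηV (coord hb le_rfl (rs M hVU s) i) • B i = 0 := by
    refine (Finset.sum_congr rfl fun i _ => ?_).trans e
    rw [Groth.L20.ModStalk.germ_smul, Groth.L18.Frame.rs_self]
    exact congrArg _ (stalkBasis_apply hb hηV i)
  have hc : coord hb le_rfl (rs M hVU s) = 0 := funext fun i =>
    germ_injective_of_isIntegral C (genericPoint C) hηV
      ((Fintype.linearIndependent_iff.1 B.linearIndependent _ e2 i).trans (map_zero _).symm)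
  have h0 : rs M hVU s = 0 := by
    rw [← lc_coord hb le_rfl (rs M hVU s), hc]
    simp [lc]
  have h3 := Groth.L20.ModStalk.germ_rs (M := M) hVU hzV s
  rw [h0, map_zero] at h3
  exact h3.symm

/-- Germs of coordinates are coordinates of germs. -/
theorem germ_eq_sum {X : Scheme.{u}} {M : X.Modules} {V W : X.Opens} {n : ℕ} {b : Fin n → Γ(M, V)}
    (hb : IsBasisOn M V b) (h : W ≤ V) (m : Γ(M, W)) {x : X} (hx : x ∈ W) :
    M.presheaf.germ W x hx m =
      ∑ i, X.presheaf.germ W x hx (coord hb h m i) • stalkBasis hb (h hx) i := by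
  have e := congrArg (M.presheaf.germ W x hx) (lc_coord hb h m)
  rw [lc, map_sum] at e
  refine e.symm.trans (Finset.sum_congr rfl fun i _ => ?_)
  rw [Groth.L20.ModStalk.germ_smul, Groth.L20.ModStalk.germ_rs]
  exact congrArg _ (stalkBasis_apply hb (h hx) i).symm

theorem repr_germ {X : Scheme.{u}} {M : X.Modules} {V W : X.Opens} {n : ℕ} {b : Fin n → Γ(M, V)}
    (hb : IsBasisOn M V b) (h : W ≤ V) (m : Γ(M, W)) {x : X} (hx : x ∈ W) (i : Fin n) :
    (stalkBasis hb (h hx)).repr (M.presheaf.germ W x hx m) i = X.presheaf.germ W x hx (coord hb h m i) := by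
  rw [germ_eq_sum hb h m hx]
  exact congrFun ((stalkBasis hb (h hx)).repr_sum_self (fun i => X.presheaf.germ W x hx (coord hb h m i))) i

/-- Germs of functions in the stalk of the structure module. -/
theorem germ_structure {C : Scheme.{u}} {U : C.Opens} {P : C} (hP : P ∈ U) (a : Γ(C, U)) :
    (Coh.structureModule C).presheaf.germ U P hP (show Γ(Coh.structureModule C, U) from a) =
      C.presheaf.germ U P hP a • Groth.L21.RR.one C P := by
  have h1 : (show Γ(Coh.structureModule C, U) from a) =
      a • rs (Coh.structureModule C) (le_top : U ≤ ⊤) (Groth.L21.RR.oneSec C) := by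
    show a = a * ro (le_top : U ≤ ⊤) (1 : Γ(C, ⊤))
    exact (mul_one a).symm.trans (congrArg (a * ·)
      (map_one (C.presheaf.map (homOfLE (le_top : U ≤ ⊤)).op).hom).symm)
  refine (congrArg _ h1).trans ?_
  rw [Groth.L20.ModStalk.germ_smul, Groth.L20.ModStalk.germ_rs]
  rfl

/-- Combinations of derivations along a map are derivations along it. -/
theorem leibniz_sum {k A B : Type u} [CommRing k] [CommRing A] [Algebra k A] [CommRing B] [Algebra k B]
    (φ : B → A) {m : ℕ} (δ : Fin m → (B →ₗ[k] A))
    (hδ : ∀ l b b', δ l (b * b') = φ b * δ l b' + φ b' * δ l b) (a : Fin m → k) (b b' : B) :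
    (∑ l, a l • δ l) (b * b') = φ b * (∑ l, a l • δ l) b' + φ b' * (∑ l, a l • δ l) b := by
  simp only [LinearMap.sum_apply, LinearMap.smul_apply, hδ, smul_add, Finset.sum_add_distrib,
    Finset.mul_sum, mul_smul_comm]

variable {k : Type u} [Field k] [IsAlgClosed k] {X C : Scheme.{u}} {p : X ⟶ Spec (CommRingCat.of k)}
  {q : C ⟶ Spec (CommRingCat.of k)} {f : C ⟶ X} [IsIntegral X] [IsIntegral C] [Smooth p] [QuasiSeparated p]

/-- If `f^* E` has no sections and the homomorphisms `f^* Ω → O` are jointly injective at the generic point,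
then `E` has no sections. -/
theorem eq_zero_of_free (hf : f ≫ p = q) {E : X.Modules} (hE : FlatMod.IsFinLocFree E)
    (h0 : ∀ t : Γ((Scheme.Modules.pullback f).obj E, ⊤), t = 0) {m : ℕ}
    (D : Fin m → ((Scheme.Modules.pullback f).obj (Omega.sheaf p) ⟶ Coh.structureModule C))
    (hD : ∀ v, (∀ l, st (D l) (genericPoint C) v = 0) → v = 0) (s : Γ(E, ⊤)) : s = 0 := by
  classical
  set η := genericPoint C with hηdef
  set y := f η with hydef
  letI := (toStalk p y).hom.toAlgebra
  letI := (toStalk q η).hom.toAlgebra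
  haveI : Algebra.FormallySmooth k (X.presheaf.stalk y) := Groth.L22.CotSmooth.formallySmooth_toStalk p y
  haveI : Algebra.EssFiniteType k (X.presheaf.stalk y) := Groth.L07.SyntOverField.essFiniteType_stalk p y
  haveI : IsDomain (X.presheaf.stalk y) := inferInstance
  haveI : Infinite k := IsAlgClosed.instInfinite
  let φ : X.presheaf.stalk y →ₐ[k] C.functionField :=
    { (f.stalkMap η).hom with commutes' := fun c => stalkMap_toStalk hf η c }
  -- coordinates at `y`
  obtain ⟨U₁, hU₁, hyU₁, hs₁⟩ := Groth.L12.FrobLift.exists_standard p y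
  letI : Algebra k Γ(X, U₁) := (baseHom p U₁).toAlgebra
  haveI : Algebra.IsStandardSmooth k Γ(X, U₁) := hs₁
  obtain ⟨ι₀, σ₀, hσ₀, hι₀, ⟨S⟩⟩ := (inferInstance : Algebra.IsStandardSmooth k Γ(X, U₁)).out
  let nX := Nat.card ((Set.range S.map)ᶜ : Set ι₀)
  let bΩ : Module.Basis (Fin nX) Γ(X, U₁) Ω[Γ(X, U₁)⁄k] := S.basisKaehler.reindex (Finite.equivFin _)
  let xc : Fin nX → Γ(X, U₁) := fun j => S.val ((Finite.equivFin _).symm j).1
  have hbΩ : ∀ j, bΩ j = KaehlerDifferential.D k Γ(X, U₁) (xc j) := fun j => by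
    rw [Module.Basis.reindex_apply, Algebra.SubmersivePresentation.basisKaehler_apply]
  have hω : IsBasisOn (Omega.sheaf p) U₁ fun j => dSect p U₁ (xc j) := fun V h =>
    Groth.L12.FrobLift.isBasisS_dSect p hU₁ xc ⟨bΩ, hbΩ⟩ V h
  let x : Fin nX → X.presheaf.stalk y := fun j => X.presheaf.germ U₁ y hyU₁ (xc j)
  have hx : Submodule.span (X.presheaf.stalk y)
      (Set.range fun i => KaehlerDifferential.D k (X.presheaf.stalk y) (x i)) = ⊤ := by
    letI := X.presheaf.algebra_section_stalk (⟨y, hyU₁⟩ : U₁)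
    haveI := hU₁.isLocalization_stalk (⟨y, hyU₁⟩ : U₁)
    haveI : IsScalarTower k Γ(X, U₁) (X.presheaf.stalk y) := IsScalarTower.of_algebraMap_eq fun c =>
      toStalk_apply p hyU₁ c
    let M := (hU₁.primeIdealOf ⟨y, hyU₁⟩).asIdeal.primeCompl
    haveI := KaehlerDifferential.isLocalizedModule_map k Γ(X, U₁) (X.presheaf.stalk y) M
    have h1 := span_eq_top_of_isLocalizedModule (X.presheaf.stalk y) M
      (KaehlerDifferential.map k k Γ(X, U₁) (X.presheaf.stalk y)) (v := Set.range bΩ) bΩ.span_eq
    refine Eq.trans (congrArg (Submodule.span _) ?_) h1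
    rw [← Set.range_comp]
    refine congrArg Set.range (funext fun i => ?_)
    simp only [Function.comp_apply, hbΩ]
    exact (KaehlerDifferential.map_D k k Γ(X, U₁) (X.presheaf.stalk y) (xc i)).symm
  -- velocities
  choose δη hδη hδηW using fun l => exists_velocity (D l) hf η
  let v : Fin m → Fin nX → C.functionField := fun l i => δη l (x i)
  have hv : Submodule.span C.functionField (Set.range v) = ⊤ := by
    by_contra hne
    obtain ⟨ψ, hψ0, hψ⟩ := Submodule.exists_dual_map_eq_bot_of_lt_top (lt_top_iff_ne_top.2 hne) inferInstance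
    let w : Fin nX → C.functionField := fun i => ψ (Pi.single i 1)
    let Bω := stalkBasis (hω.pullback f) (show η ∈ f ⁻¹ᵁ U₁ from hyU₁)
    have hw : ∑ i, w i • Bω i = 0 := by
      refine hD _ fun l => ?_
      rw [map_sum]
      have e : ∀ i, st (D l) η (w i • Bω i) = w i • (Coh.structureModule C).presheaf.germ (f ⁻¹ᵁ U₁) η hyU₁
          ((D l).app (f ⁻¹ᵁ U₁) (pull f (Omega.sheaf p) U₁ (dSect p U₁ (xc i)))) := fun i => by
        rw [map_smul]
        exact congrArg (w i • ·) ((congrArg (st (D l) η) (stalkBasis_apply _ _ i)).trans (st_germ _ _ _))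
      rw [Finset.sum_congr rfl fun i _ => e i]
      have h2 : ψ (v l) = 0 := by
        have : ψ (v l) ∈ (Submodule.span C.functionField (Set.range v)).map ψ :=
          Submodule.mem_map_of_mem (Submodule.subset_span ⟨l, rfl⟩)
        rwa [hψ, Submodule.mem_bot] at this
      rw [LinearMap.pi_apply_eq_sum_univ ψ] at h2
      have h3 : ∀ i, w i • (Coh.structureModule C).presheaf.germ (f ⁻¹ᵁ U₁) η hyU₁
          ((D l).app (f ⁻¹ᵁ U₁) (pull f (Omega.sheaf p) U₁ (dSect p U₁ (xc i)))) =
          (v l i • ψ fun j => if i = j then (1 : C.functionField) else 0) • Groth.L21.RR.one C η := fun i => by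
        rw [show (fun j => if i = j then (1 : C.functionField) else 0) = Pi.single i 1 from
          funext fun j => by simp [Pi.single_apply, eq_comm]]
        refine (congrArg (w i • ·) (germ_structure (U := f ⁻¹ᵁ U₁) hyU₁ _)).trans ?_
        rw [show v l i = velW (D l) η hyU₁ (xc i) from hδηW l U₁ hyU₁ (xc i), ← mul_smul]
        exact congrArg (· • Groth.L21.RR.one C η) (mul_comm (w i) _)
      rw [Finset.sum_congr rfl fun i _ => h3 i, ← Finset.sum_smul, h2, zero_smul]
    refine hψ0 (LinearMap.pi_ext fun i c => ?_)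
    have hwi := Fintype.linearIndependent_iff.1 Bω.linearIndependent w hw i
    rw [← mul_one c, ← smul_eq_mul, Pi.single_smul, map_smul]
    show c • w i = _
    rw [hwi, smul_zero, LinearMap.zero_apply]
  -- coordinates of the section
  obtain ⟨V₀, ne, e₀, -, hyV₀, -, hb₀⟩ := Groth.L19.ProjBdl.exists_basisOn hE y ⊤ trivial
  let B₀ := stalkBasis hb₀ hyV₀
  let gy : E.presheaf.stalk y := E.presheaf.germ ⊤ y trivial s
  let σ : Fin ne → X.presheaf.stalk y := fun j => B₀.repr gy j
  let P₀ := stalkBasis (hb₀.pullback f) (show η ∈ f ⁻¹ᵁ V₀ from hyV₀)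
  let π : E.presheaf.stalk y → ((Scheme.Modules.pullback f).obj E).presheaf.stalk η :=
    fun z => ∑ j, φ (B₀.repr z j) • P₀ j
  have hπ : ∀ (W : X.Opens) (hW : y ∈ W) (t : Γ(E, W)), π (E.presheaf.germ W y hW t) = pgerm f E η hW t := by
    intro W hW t
    have hW' : y ∈ W ⊓ V₀ := ⟨hW, hyV₀⟩
    rw [← pgerm_rs E (inf_le_left : W ⊓ V₀ ≤ W) η hW', ← Groth.L20.ModStalk.germ_rs E (inf_le_left : W ⊓ V₀ ≤ W) hW']
    rw [← lc_coord hb₀ (inf_le_right : W ⊓ V₀ ≤ V₀) (rs E inf_le_left t)]
    have hp : pgerm f E η hW' (lc E e₀ inf_le_right (coord hb₀ inf_le_right (rs E inf_le_left t))) =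
        ∑ j, φ (X.presheaf.germ (W ⊓ V₀) y hW' (coord hb₀ inf_le_right (rs E inf_le_left t) j)) • P₀ j := by
      rw [lc, show pgerm f E η hW' (∑ j, _) = ∑ j, pgerm f E η hW' _ from
        map_sum (AddMonoidHom.mk' (pgerm f E η hW') (pgerm_add E η hW')) _ _]
      refine Finset.sum_congr rfl fun j _ => ?_
      rw [pgerm_smul, pgerm_rs]
      exact congrArg _ (stalkBasis_apply (hb₀.pullback f) (show η ∈ f ⁻¹ᵁ V₀ from hyV₀) j).symm
    rw [hp]
    refine Finset.sum_congr rfl fun j _ => congrArg (fun a => φ a • P₀ j) ?_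
    rw [lc_coord]
    exact repr_germ hb₀ inf_le_right _ hW' j
  suffices hall : ∀ r j, inB (K := C.functionField) (σ j) ∈ J φ ^ r by
    have hσ : ∀ j, σ j = 0 := fun j => eq_zero_of_forall_pow φ fun r => hall r j
    have hgy : gy = 0 := by
      rw [← B₀.sum_repr gy]
      exact Finset.sum_eq_zero fun j _ => by rw [show B₀.repr gy j = σ j from rfl, hσ j, zero_smul]
    refine germ_generic_injective hE (U := ⊤) trivial (Eq.trans ?_ (map_zero _).symm)
    have h1 := TopCat.Presheaf.germ_stalkSpecializes_apply E.presheaf (U := ⊤) (show y ∈ (⊤ : X.Opens) from trivial)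
      ((genericPoint_spec X).specializes trivial : genericPoint X ⤳ y) s
    exact h1.symm.trans ((congrArg _ hgy).trans (map_zero _))
  intro r
  induction r with
  | zero => intro j; simp
  | succ r ih =>
    let N := r + 2
    choose γ hγ0 hγ1 using fun a : Fin m → k => exists_lift (n := N) φ (∑ l, a l • δη l)
      (leibniz_sum (φ : X.presheaf.stalk y → C.functionField) δη hδη a) (by omega)
    suffices hc : ∀ a, ∑ j, cf N r (Gam (γ a) (inB (σ j))) • P₀ j = 0 by
      intro j
      refine mem_pow_succ φ hx (N := N) (by omega) v hv γ hγ0 (fun a i => ?_) (ih j) fun a =>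
        Fintype.linearIndependent_iff.1 P₀.linearIndependent _ (hc a) j
      rw [hγ1, LinearMap.sum_apply]
      exact Finset.sum_congr rfl fun l _ => by rw [LinearMap.smul_apply, Algebra.smul_def]
    intro a
    set c := ∑ j, cf N r (Gam (γ a) (inB (σ j))) • P₀ j with hcdef
    -- `c` extends to every point
    have key : ∀ P : C, ∃ (O : C.Opens) (_ : P ∈ O) (hηO : η ∈ O) (t : Γ((Scheme.Modules.pullback f).obj E, O)),
        ((Scheme.Modules.pullback f).obj E).presheaf.germ O η hηO t = c := by
      intro P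
      obtain ⟨W, nW, eW, hW, hPW, -, hbW⟩ := Groth.L19.ProjBdl.exists_basisOn hE (f P) ⊤ trivial
      have hsp : η ⤳ P := (genericPoint_spec C).specializes trivial
      have hyW : y ∈ W := (hsp.map f.continuous).mem_open W.2 hPW
      letI := (toStalk p (f P)).hom.toAlgebra
      letI := (toStalk q P).hom.toAlgebra
      choose δP hδP hδPW using fun l => exists_velocity (D l) hf P
      obtain ⟨γ₂, h20, h21, h2r⟩ := exists_arc_at hf P hW hPW (⇑(∑ l, a l • δP l)) ⟨_, rfl,
        leibniz_sum (f.stalkMap P : _ → _) δP hδP a⟩ hyW N (by omega)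
      have hvel : ∀ z, cf N 1 (γ₂ z) = cf N 1 (γ a z) := by
        refine velocity_ext hW hyW _ _ (fun z z' => ?_) (fun z z' => ?_) fun b => ?_
        · rw [map_mul, cf_one_mul (by omega), h20, h20]
        · rw [map_mul, cf_one_mul (by omega), hγ0, hγ0]
          rfl
        · rw [h21, hγ1, LinearMap.sum_apply, LinearMap.sum_apply, map_sum]
          refine Finset.sum_congr rfl fun l _ => ?_
          rw [LinearMap.smul_apply, LinearMap.smul_apply, Algebra.smul_def, Algebra.smul_def, map_mul, hδPW,
            hδηW l W hyW, velW_specializes]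
          refine congrArg (· * _) ?_
          show C.presheaf.stalkSpecializes hsp (toStalk q P (a l)) = toStalk q η (a l)
          rw [toStalk_apply q (W := ⊤) trivial, toStalk_apply q (W := ⊤) trivial]
          exact C.presheaf.germ_stalkSpecializes_apply _ _ _
      let τs : Fin nW → Γ(X, W) := coord hbW le_rfl (rs E le_top s)
      let τ : Fin nW → X.presheaf.stalk y := fun l => X.presheaf.germ W y hyW (τs l)
      let BW := stalkBasis hbW hyW
      have hgy : gy = ∑ l, τ l • BW l := by
        show E.presheaf.germ ⊤ y trivial s = _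
        rw [← Groth.L20.ModStalk.germ_rs E (le_top : W ≤ ⊤) hyW s]
        exact germ_eq_sum hbW le_rfl _ hyW
      have hσ : ∀ j, σ j = ∑ l, τ l * B₀.repr (BW l) j := fun j => by
        show B₀.repr gy j = _
        rw [hgy, map_sum, Finsupp.finsetSum_apply]
        exact Finset.sum_congr rfl fun l _ => by rw [map_smul, Finsupp.smul_apply, smul_eq_mul]
      have hτ : ∀ l, inB (K := C.functionField) (τ l) ∈ J φ ^ r := fun l => by
        have e : τ l = ∑ j, σ j * BW.repr (B₀ j) l := by
          have h1 : BW.repr gy l = τ l := by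
            rw [hgy]; exact congrFun (BW.repr_sum_self τ) l
          rw [← h1, ← B₀.sum_repr gy, map_sum, Finsupp.finsetSum_apply]
          refine Finset.sum_congr rfl fun j _ => ?_
          rw [map_smul, Finsupp.smul_apply, smul_eq_mul]
        rw [e, map_sum]
        exact Ideal.sum_mem _ fun j _ => by rw [map_mul]; exact Ideal.mul_mem_right _ _ (ih j)
      have hcW : c = ∑ l, cf N r (γ₂ (τ l)) • pgerm f E η hyW (eW l) := by
        have h1 : ∀ j, cf N r (Gam (γ a) (inB (σ j))) = ∑ l, cf N r (γ₂ (τ l)) * φ (B₀.repr (BW l) j) := fun j => by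
          rw [hσ j, map_sum, map_sum, cf_sum]
          refine Finset.sum_congr rfl fun l _ => ?_
          rw [map_mul, map_mul, Gam_inB, Gam_inB,
            cf_mul_of_dvd (by omega) (Gam_inB (γ a) (τ l) ▸ eps_pow_dvd φ (by omega) (hγ0 a) (hτ l)), hγ0]
          refine congrArg (· * _) ?_
          rw [← Gam_inB (γ a), ← Gam_inB γ₂]
          exact (cf_Gam_congr φ hx (by omega) h20 (hγ0 a) (fun i => hvel (x i)) (hτ l)).symm
        rw [hcdef, Finset.sum_congr rfl fun j _ => by rw [h1 j, Finset.sum_smul], Finset.sum_comm]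
        refine Finset.sum_congr rfl fun l _ => ?_
        rw [← hπ W hyW (eW l), ← stalkBasis_apply hbW hyW l]
        show _ = cf N r (γ₂ (τ l)) • ∑ j, φ (B₀.repr (BW l) j) • P₀ j
        rw [Finset.smul_sum]
        exact Finset.sum_congr rfl fun j _ => mul_smul _ _ _
      choose z hz using fun l => h2r (τs l) r (by omega)
      let zP : ((Scheme.Modules.pullback f).obj E).presheaf.stalk P := ∑ l, z l • pgerm f E P hPW (eW l)
      obtain ⟨O, hPO, t, ht⟩ := TopCat.Presheaf.exists_germ_eq ((Scheme.Modules.pullback f).obj E).presheaf zP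
      refine ⟨O, hPO, hsp.mem_open O.2 hPO, t, ?_⟩
      rw [← TopCat.Presheaf.germ_stalkSpecializes_apply _ hPO hsp, ht, hcW, map_sum]
      refine Finset.sum_congr rfl fun l _ => ?_
      rw [Groth.L15.SecOrd.stalkSpecializes_smul]
      exact congrArg₂ (· • ·) (hz l) (TopCat.Presheaf.germ_stalkSpecializes_apply _ _ _ _)
    choose O hPO hηO t ht using key
    have hQ : FlatMod.IsFinLocFree ((Scheme.Modules.pullback f).obj E) :=
      Groth.L16.HomSh.isFinLocFree_of_bases fun z => by
        obtain ⟨V, n, b, -, hzV, -, hb⟩ := Groth.L19.ProjBdl.exists_basisOn hE (f z) ⊤ trivial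
        exact ⟨_, n, _, hzV, hb.pullback f⟩
    let F : TopCat.Sheaf Ab C := ⟨((Scheme.Modules.pullback f).obj E).presheaf, Scheme.Modules.isSheaf _⟩
    obtain ⟨g, hg, -⟩ := F.existsUnique_gluing O t (fun P P' => by
      refine germ_generic_injective hQ (U := O P ⊓ O P') ⟨hηO P, hηO P'⟩ ?_
      exact ((TopCat.Presheaf.germ_res_apply F.presheaf _ η _ _).trans (ht P)).trans
        ((TopCat.Presheaf.germ_res_apply F.presheaf _ η _ _).trans (ht P')).symm)
    have hsup : ⊤ ≤ iSup O := fun P _ => Opens.mem_iSup.2 ⟨P, hPO P⟩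
    have hg0 : rs ((Scheme.Modules.pullback f).obj E) hsup g = 0 := h0 _
    obtain ⟨P⟩ : Nonempty C := inferInstance
    rw [← ht P, ← hg P]
    refine (TopCat.Presheaf.germ_res_apply F.presheaf _ η _ g).trans ?_
    refine Eq.trans ?_ ((congrArg (F.presheaf.germ ⊤ η trivial) hg0).trans (map_zero _))
    exact (Groth.L20.ModStalk.germ_rs (M := (Scheme.Modules.pullback f).obj E) hsup trivial g).symm

end Groth.L21.FreeCurve
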