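import Groth.Agent.L21.FreeCurve.Diag
import Groth.Agent.L21.FreeCurve.Main
import Groth.Agent.L21.P1.FuncField

/-!
Homomorphisms from diagonal bundles to the structure sheaf.
-/

set_option autoImplicit false
set_option backward.isDefEq.respectTransparency false
set_option backward.isDefEq.respectTransparency.types false
set_option linter.style.haveILetI false
universe u

open CategoryTheory CategoryTheory.Limits AlgebraicGeometry TopologicalSpace Opposite
open Groth.L18.PUP (P D cc pr)
open Groth.L18.Frame (IsFrame rs ro)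
open Groth.L21.RR (st st_germ st_comp one bijective_germ_frame bijective_smul_one)

noncomputable section

namespace Groth.L21.FreeCurve

open Groth.L21.P1

variable {k : Type u} [Field k]

theorem genericPoint_mem_U (i : Fin 2) : genericPoint (P 1 k) ∈ U k i := by
  obtain ⟨p⟩ : Nonempty (PrimeSpectrum (Groth.L21.P1.A k i)) := by
    haveI : IsDomain (Groth.L21.P1.A k i) := (Groth.L21.P1.eA k i).symm.toMulEquiv.isDomain _
    infer_instance
  exact ((genericPoint_spec (P 1 k)).specializes trivial).mem_open (U k i).2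
    ((opensRange_ch k i).le ⟨p, rfl⟩ : Groth.L18.PUP.ch 1 k i p ∈ U k i)

/-- Stalk maps of sums. -/
theorem st_sum {X : Scheme.{u}} {M N : X.Modules} {ι : Type*} (s : Finset ι) (f : ι → (M ⟶ N)) (x : X)
    (v : M.presheaf.stalk x) : st (∑ l ∈ s, f l) x v = ∑ l ∈ s, st (f l) x v := by
  classical
  induction s using Finset.induction_on with
  | empty => rw [Finset.sum_empty, Finset.sum_empty, st, Functor.map_zero]; rfl
  | insert j s hj ih =>
    rw [Finset.sum_insert hj, Finset.sum_insert hj, ← ih, st, st, st, Functor.map_add]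
    rfl

/-- The germ of `1` on an open. -/
theorem germ_one {U : (P 1 k).Opens} {x : P 1 k} (hx : x ∈ U) (a : Γ(P 1 k, U)) :
    (Coh.structureModule (P 1 k)).presheaf.germ U x hx (show Γ(Coh.structureModule (P 1 k), U) from a) =
      (P 1 k).presheaf.germ U x hx a • one (P 1 k) x :=
  germ_structure hx a

/-- A morphism `O(d) → O` nonzero at the generic point, for `d ≤ 0`; bijective on stalks for `d = 0`. -/
theorem exists_hom_O {d : ℤ} (hd : d ≤ 0) :
    ∃ h : O k d ⟶ Coh.structureModule (P 1 k), Function.Injective (st h (genericPoint (P 1 k))) ∧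
      (d = 0 → ∀ x, Function.Surjective (st h x)) := by
  obtain ⟨n, rfl⟩ : ∃ n : ℕ, d = -(n : ℤ) := ⟨(-d).toNat, by omega⟩
  obtain ⟨h, hh⟩ := exists_hom_of_transition k (E := Coh.structureModule (P 1 k)) (-(n : ℤ))
    (fun i => show Γ(P 1 k, U k i) from if i = 0 then t k i ^ n else 1) (by
      show ro (inf_le_right : U01 k ≤ U k 1) (1 : Γ(P 1 k, U k 1)) =
        ψ k (LaurentPolynomial.T (-(n : ℤ))) * ro (inf_le_left : U01 k ≤ U k 0) (t k 0 ^ n)
      have h1 : ro (inf_le_left : U01 k ≤ U k 0) (t k 0 ^ n) = ψ k (LaurentPolynomial.T (n : ℤ)) := by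
        rw [show LaurentPolynomial.T (n : ℤ) = (LaurentPolynomial.T 1 : LaurentPolynomial k) ^ n by
          rw [LaurentPolynomial.T_pow, mul_one], map_pow, ψ_T_one]
        exact map_pow _ _ _
      rw [h1, ← map_mul, ← LaurentPolynomial.T_add, neg_add_cancel, LaurentPolynomial.T_zero, map_one]
      exact map_one _)
  have key : ∀ (i : Fin 2) (x : P 1 k) (hx : x ∈ U k i), st h x ((O k (-(n : ℤ))).presheaf.germ (U k i) x hx
      (tw k _ i)) = (P 1 k).presheaf.germ (U k i) x hx (if i = 0 then t k i ^ n else 1) • one (P 1 k) x := by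
    intro i x hx
    rw [st_germ, hh]
    exact germ_one hx _
  refine ⟨h, ?_, fun hn x v => ?_⟩
  · refine (injective_iff_map_eq_zero _).2 fun v hv => ?_
    obtain ⟨r, rfl⟩ := (bijective_germ_frame (isFrame_tw k _ 1) (genericPoint_mem_U 1)).2 v
    simp only at hv ⊢
    rw [map_smul, key, if_neg (by decide : ¬ (1 : Fin 2) = 0), map_one, one_smul] at hv
    rw [(bijective_smul_one (genericPoint (P 1 k))).1 (hv.trans (zero_smul _ _).symm), zero_smul]
  · obtain ⟨i, hi⟩ := exists_U_mem k x
    obtain ⟨r, rfl⟩ := (bijective_smul_one x).2 v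
    refine ⟨r • (O k (-(n : ℤ))).presheaf.germ (U k i) x hi (tw k _ i), ?_⟩
    have hn' : n = 0 := by omega
    rw [map_smul, key, show (if i = 0 then t k i ^ n else 1) = (1 : Γ(P 1 k, U k i)) by
      split <;> simp [hn'], map_one, one_smul]

/-- Homomorphisms to `O` from a bundle with nonpositive exponents, jointly injective at the generic point; jointly
surjective everywhere if all exponents vanish. -/
theorem exists_homs {V : (P 1 k).Modules} {r : ℕ} {d : Fin r → ℤ} (h : Diag k V d) (hd : ∀ l, d l ≤ 0) :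
    ∃ D : Fin r → (V ⟶ Coh.structureModule (P 1 k)),
      (∀ v, (∀ l, st (D l) (genericPoint (P 1 k)) v = 0) → v = 0) ∧
      ((∀ l, d l = 0) → ∀ x m, ∃ v, ∀ l, st (D l) x v = (if l = m then one (P 1 k) x else 0)) := by
  classical
  obtain ⟨b, hb, ht⟩ := h
  obtain ⟨e⟩ := nonempty_iso_sumO k d b hb ht
  choose g hg hg0 using fun l => exists_hom_O (k := k) (hd l)
  have hst : ∀ (x : P 1 k) l (v : V.presheaf.stalk x),
      st (e.inv ≫ biproduct.π (fun l => O k (d l)) l ≫ g l) x v =
        st (g l) x (st (biproduct.π (fun l => O k (d l)) l) x (st e.inv x v)) := fun x l v => by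
    rw [st_comp, st_comp]
  refine ⟨fun l => e.inv ≫ biproduct.π _ l ≫ g l, fun v hv => ?_, fun h0 x m => ?_⟩
  · have h1 : st e.inv (genericPoint (P 1 k)) v = 0 := by
      have htot : st (∑ l, biproduct.π (fun l => O k (d l)) l ≫ biproduct.ι (fun l => O k (d l)) l)
          (genericPoint (P 1 k)) (st e.inv (genericPoint (P 1 k)) v) = st e.inv (genericPoint (P 1 k)) v := by
        rw [biproduct.total, st, CategoryTheory.Functor.map_id]
        rfl
      rw [← htot, st_sum]
      refine Finset.sum_eq_zero fun l _ => ?_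
      change st (biproduct.π (fun l => O k (d l)) l ≫ biproduct.ι (fun l => O k (d l)) l) _ _ = 0
      rw [st_comp, hg l ((hst _ l v).symm.trans ((hv l).trans (map_zero _).symm)), map_zero]
    have h2 := st_comp e.inv e.hom (genericPoint (P 1 k)) v
    rw [h1, map_zero, Iso.inv_hom_id, st, CategoryTheory.Functor.map_id] at h2
    exact h2
  · obtain ⟨w, hw⟩ := hg0 m (h0 m) x (one (P 1 k) x)
    refine ⟨st e.hom x (st (biproduct.ι (fun l => O k (d l)) m) x w), fun l => ?_⟩
    rw [hst]
    have h3 : ∀ u, st e.inv x (st e.hom x u) = u := fun u => by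
      rw [← st_comp, Iso.hom_inv_id, st, CategoryTheory.Functor.map_id]
      rfl
    rw [h3, ← st_comp (biproduct.ι (fun l => O k (d l)) m)]
    split_ifs with hl
    · subst hl
      rw [biproduct.ι_π_self, show st (𝟙 (O k (d l))) x w = w by rw [st, CategoryTheory.Functor.map_id]; rfl, hw]
    · rw [biproduct.ι_π_ne _ (Ne.symm hl), show st (0 : O k (d m) ⟶ O k (d l)) x w = 0 by
        rw [st, Functor.map_zero]; rfl, map_zero]

end Groth.L21.FreeCurve
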