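import Groth.Agent.L21.FreeCurve.Local
import Groth.Agent.L21.FreeCurve.Homs
import Groth.Agent.L18.ProjConst
import Mathlib.Algebra.Polynomial.Expand
import Mathlib.FieldTheory.Perfect
import Mathlib.RingTheory.Localization.NumDen

/-!
The vector field `d/dt` on the function field of the projective line.
-/

set_option autoImplicit false
set_option backward.isDefEq.respectTransparency false
set_option backward.isDefEq.respectTransparency.types false
set_option linter.style.haveILetI false
universe u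

open CategoryTheory CategoryTheory.Limits AlgebraicGeometry TopologicalSpace Opposite
open Groth.L18.PUP (P D cc pr)
open Groth.L18.Frame (rs ro)
open Groth.L07.SyntOverField (toStalk toStalk_eq)
open Polynomial

noncomputable section

namespace Groth.L21.FreeCurve

open Groth.L21.P1 (U U01 φ φ_X φ_C φ_bijective)

variable {k : Type u} [Field k]

/-- The function field of the line. -/
abbrev KP (k : Type u) [Field k] : Type u := (P 1 k).functionField

/-- A chart ring inside the function field. -/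
def gi (i : Fin 2) : k[X] →+* KP k :=
  ((P 1 k).presheaf.germ (U k i) (genericPoint (P 1 k)) (genericPoint_mem_U i)).hom.comp (φ k i)

theorem gi_C (i : Fin 2) (c : k) : gi i (C c) = toStalk (pr 1 k) (genericPoint (P 1 k)) c := by
  rw [toStalk_apply (pr 1 k) (genericPoint_mem_U i), gi, RingHom.comp_apply, φ_C]
  rfl

theorem gi_injective (i : Fin 2) : Function.Injective (gi (k := k) i) :=
  (germ_injective_of_isIntegral (P 1 k) (genericPoint (P 1 k)) (genericPoint_mem_U i)).comp (φ_bijective k i).1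

theorem gi_mul_gi : gi (k := k) 0 X * gi 1 X = 1 := by
  simp only [gi, RingHom.comp_apply, φ_X]
  have h1 := congrArg ((P 1 k).presheaf.germ (U01 k) (genericPoint (P 1 k))
    ⟨genericPoint_mem_U 0, genericPoint_mem_U 1⟩).hom (Groth.L21.P1.t_mul_t k)
  rw [map_mul, map_one] at h1
  refine Eq.trans ?_ h1
  exact congrArg₂ (· * ·) ((P 1 k).presheaf.germ_res_apply (homOfLE inf_le_left) _ _ _).symm
    ((P 1 k).presheaf.germ_res_apply (homOfLE inf_le_right) _ _ _).symm

theorem isFractionRing_gi (i : Fin 2) :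
    letI := (gi (k := k) i).toAlgebra
    IsFractionRing k[X] (KP k) := by
  letI := (gi (k := k) i).toAlgebra
  haveI : Nonempty (U k i) := ⟨⟨_, genericPoint_mem_U i⟩⟩
  haveI := functionField_isFractionRing_of_isAffineOpen (P 1 k) (U k i) (isAffineOpen_U i)
  let e := RingEquiv.ofBijective (φ k i) (φ_bijective k i)
  have h := IsLocalization.isLocalization_of_base_ringEquiv (nonZeroDivisors Γ(P 1 k, U k i)) (KP k) e.symm
  have hm : (nonZeroDivisors Γ(P 1 k, U k i)).map e.symm = nonZeroDivisors k[X] :=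
    MulEquivClass.map_nonZeroDivisors e.symm
  rw [hm] at h
  convert h using 1

/-- The arc `t ↦ t + ε`. -/
def arcP : k[X] →+* Q (KP k) 2 :=
  eval₂RingHom ((cst 2).comp (toStalk (pr 1 k) (genericPoint (P 1 k))).hom) (cst 2 (gi 0 X) + eps 2)

theorem cf_arcP (A : k[X]) : cf 2 0 (arcP A) = gi 0 A ∧ cf 2 1 (arcP A) = gi 0 (derivative A) := by
  induction A using Polynomial.induction_on with
  | C c =>
    rw [arcP, coe_eval₂RingHom, eval₂_C, RingHom.comp_apply, cf_cst two_pos, cf_one_cst one_lt_two, derivative_C,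
      map_zero]
    exact ⟨(gi_C 0 c).symm, rfl⟩
  | add p q hp hq => simp only [map_add, cf_add, hp, hq, and_self]
  | monomial n c ih =>
    obtain ⟨h0, h1⟩ := ih
    have hX : cf 2 0 (arcP (X : k[X])) = gi 0 X ∧ cf 2 1 (arcP (X : k[X])) = 1 := by
      rw [arcP, coe_eval₂RingHom, eval₂_X, cf_add, cf_add, cf_cst two_pos, cf_one_cst one_lt_two]
      exact ⟨by rw [eps, cf_mk two_pos, coeff_X_zero, add_zero], by rw [eps, cf_mk one_lt_two, coeff_X_one, zero_add]⟩
    refine ⟨?_, ?_⟩
    · rw [show C c * (X : k[X]) ^ (n + 1) = C c * X ^ n * X by ring, map_mul arcP, show cf 2 0 (arcP (C c * X ^ n) * arcP X) = _ from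
        (cf0 (two_pos)).map_mul _ _]
      show cf 2 0 _ * cf 2 0 _ = _
      rw [h0, hX.1, map_mul]
      simp [map_mul, map_pow]
    · rw [show C c * (X : k[X]) ^ (n + 1) = C c * X ^ n * X by ring, map_mul arcP, cf_one_mul one_lt_two, h0, h1, hX.1, hX.2, ← map_mul, mul_one,
        ← map_add]
      congr 1
      rw [derivative_mul (f := C c * X ^ n) (g := X), derivative_X, mul_one, add_comm]

theorem isUnit_arcP {A : k[X]} (hA : A ≠ 0) : IsUnit (arcP A) :=
  isUnit_of_cf0 two_pos (by rw [(cf_arcP A).1]; exact (map_ne_zero_iff _ (gi_injective 0)).2 hA)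

/-- The arc on the function field. -/
def arcK : KP k →+* Q (KP k) 2 :=
  letI := (gi (k := k) 0).toAlgebra
  haveI := isFractionRing_gi (k := k) 0
  IsLocalization.lift (M := nonZeroDivisors k[X]) (g := arcP) fun s => isUnit_arcP (nonZeroDivisors.ne_zero s.2)

theorem arcK_gi (A : k[X]) : arcK (gi 0 A) = arcP A := by
  letI := (gi (k := k) 0).toAlgebra
  haveI := isFractionRing_gi (k := k) 0
  exact IsLocalization.lift_eq _ A

theorem cf0_arcK (z : KP k) : cf 2 0 (arcK z) = z := by
  letI := (gi (k := k) 0).toAlgebra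
  haveI := isFractionRing_gi (k := k) 0
  refine congrArg (fun g : KP k →+* KP k => g z) (IsLocalization.ringHom_ext (nonZeroDivisors k[X])
    (j := (cf0 two_pos).comp arcK) (k := RingHom.id _) (RingHom.ext fun A => ?_))
  show cf 2 0 (arcK (gi 0 A)) = gi 0 A
  rw [arcK_gi, (cf_arcP A).1]

/-- `d/dt`. -/
def ddt (z : KP k) : KP k := cf 2 1 (arcK z)

theorem ddt_add (z z' : KP k) : ddt (z + z') = ddt z + ddt z' := by rw [ddt, map_add, cf_add]; rfl

theorem ddt_mul (z z' : KP k) : ddt (z * z') = z * ddt z' + z' * ddt z := by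
  rw [ddt, map_mul, cf_one_mul one_lt_two, cf0_arcK, cf0_arcK, mul_comm (cf 2 1 _) z']
  rfl

theorem ddt_gi (A : k[X]) : ddt (gi 0 A) = gi 0 (derivative A) := by rw [ddt, arcK_gi, (cf_arcP A).2]

theorem ddt_const (c : k) : ddt (toStalk (pr 1 k) (genericPoint (P 1 k)) c) = 0 := by
  rw [← gi_C 0, ddt_gi, derivative_C, map_zero]

theorem ddt_gi_one (A : k[X]) : ddt (gi 1 A) = -(gi 1 X * gi 1 X) * gi 1 (derivative A) := by
  have hu : ddt (gi (k := k) 1 X) = -(gi 1 X * gi 1 X) := by
    have h1 := congrArg ddt (gi_mul_gi (k := k))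
    rw [ddt_mul, ddt_gi, derivative_X, map_one, mul_one,
      show ddt (1 : KP k) = 0 by rw [← map_one (gi (k := k) 0), ddt_gi, derivative_one, map_zero]] at h1
    linear_combination (gi 1 X) * h1 - ddt (gi 1 X) * gi_mul_gi (k := k)
  induction A using Polynomial.induction_on with
  | C c => rw [gi_C, ddt_const, derivative_C, map_zero, mul_zero]
  | add p q hp hq => rw [map_add, ddt_add, hp, hq, derivative_add, map_add, mul_add]
  | monomial n c ih =>
    rw [pow_succ, ← mul_assoc, map_mul, ddt_mul, ih, hu, derivative_mul (f := C c * X ^ n) (g := X), derivative_X,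
      mul_one, map_add, map_mul (gi 1) (derivative _) X]
    ring

/-- `d/dt` preserves the local rings, and maps the local ring at a point at infinity into its maximal ideal. -/
theorem exists_ddt_rep (x : P 1 k) (z : KP k) (b : (P 1 k).presheaf.stalk x)
    (hb : (P 1 k).presheaf.stalkSpecializes ((genericPoint_spec (P 1 k)).specializes trivial) b = z) :
    ∃ c : (P 1 k).presheaf.stalk x,
      (P 1 k).presheaf.stalkSpecializes ((genericPoint_spec (P 1 k)).specializes trivial) c = ddt z ∧
      (x ∉ U k 0 → c ∈ IsLocalRing.maximalIdeal ((P 1 k).presheaf.stalk x)) := by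
  set S := (P 1 k).presheaf.stalkSpecializes ((genericPoint_spec (P 1 k)).specializes (Set.mem_univ x)) with hS
  obtain ⟨i, hxi, hinf⟩ : ∃ i : Fin 2, x ∈ U k i ∧ (x ∉ U k 0 → i = 1) := by
    by_cases h : x ∈ U k 0
    · exact ⟨0, h, fun h' => absurd h h'⟩
    · obtain ⟨i, hi⟩ := Groth.L21.P1.exists_U_mem k x
      fin_cases i
      · exact absurd hi h
      · exact ⟨1, hi, fun _ => rfl⟩
  let gx : k[X] →+* (P 1 k).presheaf.stalk x := ((P 1 k).presheaf.germ (U k i) x hxi).hom.comp (φ k i)
  have hgx : ∀ A, S (gx A) = gi i A := fun A => (P 1 k).presheaf.germ_stalkSpecializes_apply _ _ _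
  letI := (P 1 k).presheaf.algebra_section_stalk (⟨x, hxi⟩ : U k i)
  haveI := (isAffineOpen_U (k := k) i).isLocalization_stalk (⟨x, hxi⟩ : U k i)
  obtain ⟨⟨a, s⟩, has⟩ := IsLocalization.surj ((isAffineOpen_U (k := k) i).primeIdealOf ⟨x, hxi⟩).asIdeal.primeCompl b
  have hu := IsLocalization.map_units ((P 1 k).presheaf.stalk x) s
  obtain ⟨A, rfl⟩ := (φ_bijective k i).2 a
  obtain ⟨B, hB⟩ := (φ_bijective k i).2 (s : Γ(P 1 k, U k i))
  have hus : IsUnit (gx B) := by
    show IsUnit ((P 1 k).presheaf.germ (U k i) x hxi (φ k i B))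
    rw [hB]; exact hu
  have heq : b * gx B = gx A := by
    show b * (P 1 k).presheaf.germ (U k i) x hxi (φ k i B) = _
    rw [hB]; exact has
  obtain ⟨v, hv⟩ := hus.exists_right_inv
  -- the derivative on the chart
  obtain ⟨w, hw⟩ : ∃ w : (P 1 k).presheaf.stalk x, ∀ G, ddt (gi i G) = S (w * gx (derivative G)) ∧
      (x ∉ U k 0 → w ∈ IsLocalRing.maximalIdeal ((P 1 k).presheaf.stalk x)) := by
    obtain rfl | rfl : i = 0 ∨ i = 1 := by omega
    · refine ⟨1, fun G => ⟨by rw [ddt_gi, map_mul, map_one, one_mul, hgx], fun h => ?_⟩⟩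
      exact absurd (hinf h) (by decide)
    · refine ⟨-(gx X * gx X), fun G => ⟨by rw [ddt_gi_one, map_mul, map_neg, map_mul, hgx, hgx], fun h => ?_⟩⟩
      refine neg_mem (Ideal.mul_mem_left _ _ ?_)
      rw [IsLocalRing.mem_maximalIdeal, mem_nonunits_iff]
      intro hunit
      have hmem : x ∈ (P 1 k).basicOpen (Groth.L21.P1.t k 1) := by
        rw [Scheme.mem_basicOpen _ _ _ hxi]
        simpa [gx, φ_X] using hunit
      exact h (Groth.L18.PUP.basicOpen_cc 1 0 hmem)
  refine ⟨(w * gx (derivative A) - b * (w * gx (derivative B))) * v, ?_, fun hx => ?_⟩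
  · have h1 : ddt (z * gi i B) = ddt (gi i A) := by
      rw [← hgx, ← hgx, ← hb, ← map_mul, heq]
    rw [ddt_mul, (hw A).1, (hw B).1] at h1
    have hv' : gi i B * S v = 1 := by rw [← hgx, ← map_mul, hv, map_one]
    rw [map_mul, map_sub, map_mul S.hom b, hb]
    linear_combination (- (S v)) * h1 + ddt z * hv'
  · exact Ideal.mul_mem_right _ _ (sub_mem (Ideal.mul_mem_right _ _ ((hw A).2 hx))
      (Ideal.mul_mem_left _ _ (Ideal.mul_mem_right _ _ ((hw A).2 hx))))

/-- There is a point at infinity. -/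
theorem exists_infinity : ∃ x : P 1 k, x ∉ U k 0 := by
  by_contra h
  push Not at h
  have hu : IsUnit (Groth.L21.P1.t k 1) := by
    have hle : U k 1 ≤ (P 1 k).basicOpen (Groth.L21.P1.t k 1) := fun x hx =>
      Groth.L18.ProjConst.basicOpen_cc_eq 1 0 ⟨hx, h x⟩
    exact (P 1 k).toLocallyRingedSpace.toRingedSpace.isUnit_of_isUnit_germ (U k 1) _
      (fun x hx => (Scheme.mem_basicOpen _ _ _ hx).1 (hle hx))
  rw [← φ_X] at hu
  have hX : IsUnit (X : k[X]) :=
    (isUnit_map_iff (RingEquiv.ofBijective (φ k 1) (φ_bijective k 1)) (X : k[X])).1 hu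
  exact not_isUnit_X hX

/-- The kernel of `d/dt` in positive characteristic consists of `p`-th powers. -/
theorem exists_pow_of_ddt_eq_zero (p : ℕ) [Fact p.Prime] [CharP k p] [PerfectRing k p] {w : KP k}
    (hw : ddt w = 0) : ∃ v, v ^ p = w := by
  letI := (gi (k := k) 0).toAlgebra
  haveI := isFractionRing_gi (k := k) 0
  obtain ⟨A, B, hB, rfl⟩ := IsFractionRing.div_surjective (A := k[X]) w
  have hB0 : gi 0 B ≠ 0 := (map_ne_zero_iff _ (gi_injective 0)).2 (nonZeroDivisors.ne_zero hB)
  obtain ⟨n, hn⟩ : ∃ n, p = n + 1 := ⟨p - 1, by have := (Fact.out : p.Prime).pos; omega⟩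
  let f := A * B ^ n
  have hf : gi 0 f = (gi 0 A / gi 0 B) * gi 0 B ^ p := by
    simp only [f, map_mul, map_pow]
    rw [hn, pow_succ, div_mul_eq_mul_div, eq_div_iff hB0, mul_assoc]
  have hdf : derivative f = 0 := by
    refine (map_eq_zero_iff _ (gi_injective 0)).1 ?_
    rw [← ddt_gi, hf, ddt_mul, show ddt (gi 0 A / gi 0 B) = 0 from hw, mul_zero, add_zero, ← map_pow, ddt_gi,
      derivative_pow, CharP.cast_eq_zero, map_zero, zero_mul, zero_mul, map_zero, mul_zero]
  let G := (contract p f).map ((frobeniusEquiv k p).symm : k →+* k)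
  have hG : G ^ p = f := by
    rw [← map_frobenius_expand p G, map_expand, map_map,
      show (frobenius k p).comp ((frobeniusEquiv k p).symm : k →+* k) = RingHom.id k from
        RingHom.ext fun c => frobenius_apply_frobeniusEquiv_symm k p c, Polynomial.map_id]
    exact expand_contract p hdf (Fact.out : p.Prime).ne_zero
  exact ⟨gi 0 G / gi 0 B, by rw [div_pow, ← map_pow, hG, hf, mul_div_assoc, div_self (pow_ne_zero p hB0), mul_one]; rfl⟩

/-- The kernel of `d/dt` in characteristic zero consists of constants. -/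
theorem exists_const_of_ddt_eq_zero [CharZero k] {w : KP k} (hw : ddt w = 0) :
    ∃ c, w = toStalk (pr 1 k) (genericPoint (P 1 k)) c := by
  letI := (gi (k := k) 0).toAlgebra
  haveI := isFractionRing_gi (k := k) 0
  obtain ⟨a, b, hab, hw'⟩ := IsFractionRing.exists_reduced_fraction (A := k[X]) w
  rw [IsFractionRing.mk'_eq_div] at hw'
  have hb0 : gi 0 (b : k[X]) ≠ 0 := (map_ne_zero_iff _ (gi_injective 0)).2 (nonZeroDivisors.ne_zero b.2)
  have h1 : w * gi 0 (b : k[X]) = gi 0 a := by
    rw [← hw']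
    exact div_mul_cancel₀ _ hb0
  have e := congrArg ddt h1
  rw [ddt_mul, ddt_gi, ddt_gi, hw, mul_zero, add_zero] at e
  have he : a * derivative (b : k[X]) = derivative a * b := gi_injective 0 (by
    rw [map_mul, map_mul, ← e, ← h1]
    ring)
  have hdvd : (b : k[X]) ∣ derivative (b : k[X]) :=
    hab.symm.dvd_of_dvd_mul_left ⟨derivative a, by rw [he, mul_comm]⟩
  have hdb : derivative (b : k[X]) = 0 := by
    by_contra hne
    exact absurd (natDegree_le_of_dvd hdvd hne) (not_le.2 (natDegree_derivative_lt fun h0 => hne (by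
      rw [eq_C_of_natDegree_eq_zero h0, derivative_C])))
  have hda : derivative a = 0 := by
    rw [hdb, mul_zero] at he
    exact (mul_eq_zero.1 he.symm).resolve_right (nonZeroDivisors.ne_zero b.2)
  refine ⟨a.coeff 0 / (b : k[X]).coeff 0, ?_⟩
  have ha' := eq_C_of_derivative_eq_zero hda
  have hb' := eq_C_of_derivative_eq_zero hdb
  rw [map_div₀ (toStalk (pr 1 k) (genericPoint (P 1 k))).hom, ← gi_C 0, ← gi_C 0, ← ha', ← hb']
  exact hw'.symm

end Groth.L21.FreeCurve
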