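import Groth.Agent.L21.P1.Split
import Groth.Agent.L21.P1.Coh
import Groth.Agent.L12.ExtSh.Free
import Groth.Agent.L12.ExtSh.TensBasis

/-!
Diagonal transitions of bundles on the projective line.
-/

set_option autoImplicit false
set_option backward.isDefEq.respectTransparency false
set_option backward.isDefEq.respectTransparency.types false
set_option linter.style.haveILetI false
universe u

open CategoryTheory CategoryTheory.Limits AlgebraicGeometry TopologicalSpace Opposite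
open Groth.L18.PUP (P D cc)
open Groth.L18.Frame (IsFrame rs ro)
open Groth.L19.ProjBdl (IsBasisOn lc app_rs app_lc)
open Groth.L18.GenLoc (tens tens_rs tens_smul_left tens_smul_right)

noncomputable section

namespace Groth.L21.FreeCurve

open Groth.L21.P1

variable (k : Type u) [Field k]

/-- Bases on the two charts with transition `T^{d_l}`. -/
def Diag (F : (P 1 k).Modules) {r : ℕ} (d : Fin r → ℤ) : Prop :=
  ∃ b : ∀ i, Fin r → Γ(F, U k i), (∀ i, IsBasisOn F (U k i) (b i)) ∧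
    ∀ l, rs F (inf_le_right : U01 k ≤ U k 1) (b 1 l) =
      ψ k (LaurentPolynomial.T (d l)) • rs F (inf_le_left : U01 k ≤ U k 0) (b 0 l)

variable {k}

theorem Diag.of_iso {F G : (P 1 k).Modules} {r : ℕ} {d : Fin r → ℤ} (h : Diag k F d) (e : F ≅ G) :
    Diag k G d := by
  obtain ⟨b, hb, ht⟩ := h
  refine ⟨fun i l => e.hom.app (U k i) (b i l), fun i V hV => ?_, fun l => ?_⟩
  · have h1 : lc G (fun l => e.hom.app (U k i) (b i l)) hV = e.hom.app V ∘ lc F (b i) hV :=
      funext fun c => (app_lc e.hom (b i) hV c).symm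
    rw [h1]
    haveI : IsIso (e.hom.app V) := inferInstance
    exact (ConcreteCategory.bijective_of_isIso (e.hom.app V)).comp (hb i V hV)
  · rw [← app_rs, ← app_rs, ht, Scheme.Modules.Hom.app_smul]

theorem exists_diag {r : ℕ} {F : (P 1 k).Modules} (hF : FlatMod.IsFinLocFreeOfRank r F) :
    ∃ d : Fin r → ℤ, Diag k F d := by
  obtain ⟨d, -, ⟨e⟩⟩ := exists_splitting k hF
  have h : Diag k (sumO k d) d := ⟨stdBasis k d, isBasisOn_stdBasis k d, stdBasis_transition k d⟩
  exact ⟨d, h.of_iso e⟩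

theorem Diag.h0 {F : (P 1 k).Modules} {r : ℕ} {d : Fin r → ℤ} (h : Diag k F d) :
    Groth.L21.RR.h k 0 F = ∑ l, (d l + 1).toNat := by
  obtain ⟨b, hb, ht⟩ := h
  obtain ⟨e⟩ := nonempty_iso_sumO k d b hb ht
  rw [← Groth.L21.RR.h_congr k e 0, h_sumO]
  exact Finset.sum_congr rfl fun l _ => (h_O k (d l)).1

theorem Diag.eq_zero {F : (P 1 k).Modules} {r : ℕ} {d : Fin r → ℤ} (h : Diag k F d) (hneg : ∀ l, d l < 0)
    (t : Γ(F, ⊤)) : t = 0 := by
  obtain ⟨b, hb, ht⟩ := h
  obtain ⟨e⟩ := nonempty_iso_sumO k d b hb ht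
  have h0 : ∀ l, Subsingleton Γ(O k (d l), ⊤) := fun l => by
    haveI := Groth.L21.RR.finite_HH' k (isCoh_O k (d l)) 0
    haveI : Subsingleton (Coh.HH (P 1 k) (O k (d l)) 0) := by
      refine Module.finrank_zero_iff (R := k) |>.1 ?_
      exact (h_O k (d l)).1.trans (Int.toNat_of_nonpos (by have := hneg l; omega))
    exact (Groth.L21.RR.e0 (O k (d l))).toEquiv.symm.subsingleton
  refine (ConcreteCategory.bijective_of_isIso (e.inv.app ⊤)).1 ?_
  rw [map_zero]
  have htot := congr($(biproduct.total (f := fun l : Fin r => O k (d l))).app ⊤ (e.inv.app ⊤ t))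
  rw [Groth.L17.FinLocBases.app_sum] at htot
  refine htot.symm.trans (Finset.sum_eq_zero fun l _ => ?_)
  show (biproduct.ι (fun l : Fin r => O k (d l)) l).app ⊤
    ((biproduct.π (fun l : Fin r => O k (d l)) l).app ⊤ (e.inv.app ⊤ t)) = 0
  rw [@Subsingleton.elim _ (h0 l) ((biproduct.π (fun l : Fin r => O k (d l)) l).app ⊤ (e.inv.app ⊤ t)) 0, map_zero]

theorem diag_structure (d : ℤ) : Diag k (O k d) (fun _ : Fin 1 => d) := by
  refine ⟨fun i _ => tw k d i, fun i V hV => ?_, fun _ => (tw_transition k d).symm⟩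
  have h1 : lc (O k d) (fun _ : Fin 1 => tw k d i) hV =
      (fun a => a • rs (O k d) hV (tw k d i)) ∘ (fun c : Fin 1 → Γ(P 1 k, V) => c 0) := funext fun c => by
    simp [lc]
  rw [h1]
  exact (isFrame_tw k d i V hV).comp ⟨fun a b h => funext fun j => by rwa [Fin.fin_one_eq_zero j],
    fun a => ⟨fun _ => a, rfl⟩⟩

theorem Diag.tensor {F G : (P 1 k).Modules} {r s : ℕ} {d : Fin r → ℤ} {d' : Fin s → ℤ} (h : Diag k F d)
    (h' : Diag k G d') :
    Diag k (CohB1.tensorMod F G) fun a => d (finProdFinEquiv.symm a).1 + d' (finProdFinEquiv.symm a).2 := by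
  obtain ⟨b, hb, ht⟩ := h
  obtain ⟨c, hc, ht'⟩ := h'
  refine ⟨_, fun i => Groth.L12.ExtSh.isBasisOn_tens (hb i) (hc i), fun a => ?_⟩
  rw [tens_rs, tens_rs, ht, ht', tens_smul_left, tens_smul_right, LaurentPolynomial.T_add, map_mul, mul_smul]

theorem isAffineOpen_U (i : Fin 2) : IsAffineOpen (U k i) :=
  Proj.isAffineOpen_basicOpen _ _ (Groth.L18.PS.X_mem 1 i) one_pos

theorem isAffineOpen_U01 : IsAffineOpen (U01 k) := by
  rw [← basicOpen_t]
  exact (isAffineOpen_U 0).basicOpen _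

/-- Exterior powers of diagonal bundles. -/
theorem Diag.extPow {F L : (P 1 k).Modules} {r p : ℕ} {d : Fin r → ℤ} (h : Diag k F d)
    (hL : ExtPow.IsExtPow p F L) :
    ∃ ks : Fin (r.choose p) ≃ Set.powersetCard (Fin r) p,
      Diag k L fun a => ∑ j, d (Groth.L18.PlkAlg.K ks a j) := by
  obtain ⟨b, hb, ht⟩ := h
  obtain ⟨φ, hφ⟩ := hL
  obtain ⟨ks⟩ := Groth.L18.PlkAlg.exists_enum p r
  refine ⟨ks, _, fun i => Groth.L12.ExtSh.isBasisOn_extPow φ hφ (U := ⟨U k i, isAffineOpen_U i⟩) (hb i) ks,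
    fun a => ?_⟩
  let W : (P 1 k).affineOpens := ⟨U01 k, isAffineOpen_U01⟩
  refine (hφ ⟨U k 1, isAffineOpen_U 1⟩ W inf_le_right _).trans ?_
  refine Eq.trans ?_ (congrArg (ψ k (LaurentPolynomial.T (∑ j, d (Groth.L18.PlkAlg.K ks a j))) • ·)
    (hφ ⟨U k 0, isAffineOpen_U 0⟩ W inf_le_left _).symm)
  refine Eq.trans ?_ (LinearEquiv.map_smul (φ W).symm
    (show Γ(P 1 k, W.1) from ψ k (LaurentPolynomial.T (∑ j, d (Groth.L18.PlkAlg.K ks a j)))) _)
  refine congrArg (φ W).symm ?_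
  have e : (fun j => F.val.map (homOfLE (inf_le_right : U01 k ≤ U k 1)).op ((b 1 ∘ Groth.L18.PlkAlg.K ks a) j)) =
      fun j => (show Γ(P 1 k, W.1) from ψ k (LaurentPolynomial.T (d (Groth.L18.PlkAlg.K ks a j)))) •
        (show F.val.obj (op W.1) from F.val.map (homOfLE (inf_le_left : U01 k ≤ U k 0)).op
          ((b 0 ∘ Groth.L18.PlkAlg.K ks a) j)) :=
    funext fun j => ht _
  refine (congrArg (exteriorPower.ιMulti Γ(P 1 k, W.1) p) e).trans ?_
  refine (AlternatingMap.map_smul_univ _ _ _).trans (congrArg (· • _) ?_)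
  have hT : ∀ (s : Finset (Fin p)), (LaurentPolynomial.T (∑ j ∈ s, d (Groth.L18.PlkAlg.K ks a j)) : LaurentPolynomial k) =
      ∏ j ∈ s, LaurentPolynomial.T (d (Groth.L18.PlkAlg.K ks a j)) := fun s => by
    classical
    induction s using Finset.induction_on with
    | empty => simp [LaurentPolynomial.T_zero]
    | insert j s hj ih => rw [Finset.sum_insert hj, Finset.prod_insert hj, LaurentPolynomial.T_add, ih]
  rw [hT, map_prod]

end Groth.L21.FreeCurve
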