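import Groth.Agent.L21.FreeCurve.Trivial
import Groth.Agent.L21.P1.FuncField
import Mathlib.FieldTheory.IsAlgClosed.Basic
import Mathlib.AlgebraicGeometry.Morphisms.Proper
import Mathlib.Algebra.CharP.Frobenius

/-!
The pullback of the differentials along a nonconstant map from the line is not trivial.
-/

set_option autoImplicit false
set_option backward.isDefEq.respectTransparency false
set_option backward.isDefEq.respectTransparency.types false
set_option linter.style.haveILetI false
universe u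

open CategoryTheory CategoryTheory.Limits AlgebraicGeometry TopologicalSpace Opposite
open Groth.L18.PUP (P pr)
open Groth.L07.SyntOverField (toStalk toStalk_eq)
open Groth.L12.FrobLift (baseHom)
open Groth.L21.RR (st one)
open Polynomial

noncomputable section

namespace Groth.L21.FreeCurve

variable {k : Type u} [Field k] {X : Scheme.{u}} {p : X ⟶ Spec (CommRingCat.of k)} {f : P 1 k ⟶ X}

theorem toStalk_surj_of_gi {w : KP k} {C D : k[X]} (hC : C.natDegree = 0) (hD : D.natDegree = 0)
    (hw : gi 0 C / gi 0 D = w) : ∃ c, w = toStalk (pr 1 k) (genericPoint (P 1 k)) c := by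
  refine ⟨C.coeff 0 / D.coeff 0, ?_⟩
  rw [map_div₀ (toStalk (pr 1 k) (genericPoint (P 1 k))).hom, ← gi_C 0, ← gi_C 0,
    ← eq_C_of_natDegree_eq_zero hC, ← eq_C_of_natDegree_eq_zero hD]
  exact hw.symm

/-- A nonconstant rational function is not a `q`-th power for large `q`. -/
theorem exists_bound_of_nonconstant {w : KP k}
    (hw : ∀ c, w ≠ toStalk (pr 1 k) (genericPoint (P 1 k)) c) :
    ∃ N, ∀ q, N < q → ∀ v, v ^ q ≠ w := by
  letI := (gi (k := k) 0).toAlgebra
  haveI := isFractionRing_gi (k := k) 0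
  obtain ⟨A, B, hB, rfl⟩ := IsFractionRing.div_surjective (A := k[X]) w
  have hA0 : A ≠ 0 := fun h => hw 0 (by simp [h])
  have hB0 : B ≠ 0 := nonZeroDivisors.ne_zero hB
  refine ⟨A.natDegree + B.natDegree, fun q hq v hv => ?_⟩
  obtain ⟨C, D, hCD, hv'⟩ := IsFractionRing.exists_reduced_fraction (A := k[X]) v
  rw [IsFractionRing.mk'_eq_div] at hv'
  have hD0 : gi 0 (D : k[X]) ≠ 0 := (map_ne_zero_iff _ (gi_injective 0)).2 (nonZeroDivisors.ne_zero D.2)
  have hBK : gi 0 B ≠ 0 := (map_ne_zero_iff _ (gi_injective 0)).2 hB0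
  have he : C ^ q * B = A * (D : k[X]) ^ q := gi_injective 0 (by
    rw [map_mul, map_mul, map_pow, map_pow, ← div_eq_div_iff (pow_ne_zero _ hD0) hBK, ← div_pow]
    exact (congrArg (· ^ q) hv').trans hv)
  have h1 : C ^ q ∣ A := hCD.pow.dvd_of_dvd_mul_right ⟨B, he.symm⟩
  have h2 : (D : k[X]) ^ q ∣ B := hCD.symm.pow.dvd_of_dvd_mul_left ⟨A, by rw [he, mul_comm]⟩
  have h1' := natDegree_le_of_dvd h1 hA0
  have h2' := natDegree_le_of_dvd h2 hB0
  rw [natDegree_pow] at h1' h2'
  have hC : C.natDegree = 0 := by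
    by_contra h
    have := Nat.le_mul_of_pos_right q (Nat.pos_of_ne_zero h)
    omega
  have hD : (D : k[X]).natDegree = 0 := by
    by_contra h
    have := Nat.le_mul_of_pos_right q (Nat.pos_of_ne_zero h)
    omega
  obtain ⟨c, hc⟩ := toStalk_surj_of_gi hC hD hv'
  refine hw (c ^ q) ?_
  rw [map_pow, ← hc]
  exact hv.symm

/-- A nonconstant map has a nonconstant pulled back function. -/
theorem exists_nonconstant (hf : f ≫ p = pr 1 k) (hnc : ¬ ∃ x : X, Set.range f.base ⊆ {x}) :
    ∃ z, ∀ c, f.stalkMap (genericPoint (P 1 k)) z ≠ toStalk (pr 1 k) (genericPoint (P 1 k)) c := by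
  by_contra h
  push Not at h
  refine hnc ⟨f (genericPoint (P 1 k)), ?_⟩
  rintro _ ⟨Q, rfl⟩
  by_contra hne
  have hsp : f (genericPoint (P 1 k)) ⤳ f Q :=
    ((genericPoint_spec (P 1 k)).specializes trivial).map f.continuous
  obtain ⟨W, hW, hQW, -⟩ := exists_isAffineOpen_mem_and_subset (X := X) (U := ⊤) (x := f Q) trivial
  have hηW : f (genericPoint (P 1 k)) ∈ W := hsp.mem_open W.2 hQW
  have hns : ¬ f Q ⤳ f (genericPoint (P 1 k)) := fun h' => hne (hsp.antisymm h').eq.symm
  rw [specializes_iff_forall_open] at hns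
  push Not at hns
  obtain ⟨U, hU, hηU, hQU⟩ := hns
  obtain ⟨a, haU, hηa⟩ := hW.exists_basicOpen_le (V := ⟨U, hU⟩) ⟨f (genericPoint (P 1 k)), hηU⟩ hηW
  obtain ⟨c, hc⟩ := h (X.presheaf.germ W _ hηW a)
  have hua : IsUnit (X.presheaf.germ W _ hηW a) := (Scheme.mem_basicOpen X a _ hηW).1 hηa
  have hc0 : c ≠ 0 := by
    rintro rfl
    rw [map_zero] at hc
    exact (hua.map (f.stalkMap (genericPoint (P 1 k))).hom).ne_zero hc
  set b := a - baseHom p W c with hb
  have hbQ : ¬ IsUnit (X.presheaf.germ W _ hQW b) := fun hu => by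
    have hηb : f (genericPoint (P 1 k)) ∈ X.basicOpen b :=
      hsp.mem_open (X.basicOpen b).2 ((Scheme.mem_basicOpen X b _ hQW).2 hu)
    refine ((((Scheme.mem_basicOpen X b _ hηW).1 hηb)).map (f.stalkMap (genericPoint (P 1 k))).hom).ne_zero ?_
    rw [hb, map_sub, map_sub, hc, ← toStalk_apply p hηW, stalkMap_toStalk hf, sub_self]
  have hQa : ¬ IsUnit (X.presheaf.germ W _ hQW a) := fun hu => hQU (haU ((Scheme.mem_basicOpen X a _ hQW).2 hu))
  have hcu : IsUnit (X.presheaf.germ W _ hQW (baseHom p W c)) := ((isUnit_iff_ne_zero.2 hc0).map (baseHom p W)).map _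
  have hm : X.presheaf.germ W _ hQW (baseHom p W c) ∈ IsLocalRing.maximalIdeal (X.presheaf.stalk (f Q)) := by
    have := sub_mem ((IsLocalRing.mem_maximalIdeal _).2 hQa) ((IsLocalRing.mem_maximalIdeal _).2 hbQ)
    rwa [hb, map_sub, sub_sub_cancel] at this
  exact (IsLocalRing.mem_maximalIdeal _).1 hm hcu

/-- The separable part of the pullback of functions. -/
theorem exists_root [IsAlgClosed k] (hf : f ≫ p = pr 1 k)
    (hnc : ¬ ∃ x : X, Set.range f.base ⊆ {x}) :
    ∃ (q : ℕ) (ρ : X.presheaf.stalk (f (genericPoint (P 1 k))) →+* KP k), 0 < q ∧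
      (∀ a b : KP k, (a + b) ^ q = a ^ q + b ^ q) ∧
      (∀ z, ρ z ^ q = f.stalkMap (genericPoint (P 1 k)) z) ∧
      (∀ c, ddt (ρ (toStalk p (f (genericPoint (P 1 k))) c)) = 0) ∧
      ∃ z, ddt (ρ z) ≠ 0 := by
  classical
  obtain ⟨z₀, hz₀⟩ := exists_nonconstant hf hnc
  obtain ⟨pc, hpc⟩ := CharP.exists k
  rcases (CharP.char_is_prime_or_zero k pc) with hprime | rfl
  · haveI : Fact pc.Prime := ⟨hprime⟩
    haveI : CharP (KP k) pc :=
      (RingHom.charP_iff (toStalk (pr 1 k) (genericPoint (P 1 k))).hom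
        (toStalk (pr 1 k) (genericPoint (P 1 k))).hom.injective pc).1 hpc
    haveI : ExpChar k pc := ExpChar.prime hprime
    haveI : ExpChar (KP k) pc := ExpChar.prime hprime
    haveI : PerfectRing k pc := PerfectField.toPerfectRing pc
    let S : Set ℕ := {e | ∀ z, ∃ v, v ^ pc ^ e = f.stalkMap (genericPoint (P 1 k)) z}
    obtain ⟨N, hN⟩ := exists_bound_of_nonconstant hz₀
    have hbd : ∀ e ∈ S, e < N + 1 := fun e he => by
      obtain ⟨v, hv⟩ := he z₀
      by_contra hle
      have := Nat.lt_pow_self (n := e) hprime.one_lt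
      exact hN _ (by omega) v hv
    have hS0 : (0 : ℕ) ∈ S := fun z => ⟨_, by rw [pow_zero, pow_one]⟩
    obtain ⟨e, heS, hmax⟩ : ∃ e ∈ S, e + 1 ∉ S := by
      by_contra hall
      push Not at hall
      exact (lt_irrefl _) (hbd (N + 1) (Nat.rec hS0 (fun n hn => hall n hn) (N + 1)))
    choose root hroot using heS
    have hinj : Function.Injective (iterateFrobenius (KP k) pc e) := iterateFrobenius_inj _ pc e
    have key : ∀ {a b : KP k}, a ^ pc ^ e = b ^ pc ^ e → a = b := fun h => hinj (by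
      rwa [iterateFrobenius_def, iterateFrobenius_def])
    let ρ : X.presheaf.stalk (f (genericPoint (P 1 k))) →+* KP k :=
      { toFun := root
        map_one' := key (by rw [hroot, map_one, one_pow])
        map_mul' := fun a b => key (by rw [hroot, map_mul, mul_pow, hroot, hroot])
        map_zero' := key (by rw [hroot, map_zero, zero_pow (pow_ne_zero _ hprime.ne_zero)])
        map_add' := fun a b => key (by rw [hroot, map_add, add_pow_expChar_pow, hroot, hroot]) }
    refine ⟨pc ^ e, ρ, pow_pos hprime.pos e, fun a b => add_pow_expChar_pow a b pc e, hroot, fun c => ?_, ?_⟩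
    · obtain ⟨c', hc'⟩ := (bijective_iterateFrobenius (R := k) (p := pc) e).2 c
      have h1 : ρ (toStalk p (f (genericPoint (P 1 k))) c) = toStalk (pr 1 k) (genericPoint (P 1 k)) c' := key (by
        show root _ ^ _ = _
        rw [hroot, stalkMap_toStalk hf, ← map_pow, ← hc', iterateFrobenius_def])
      rw [h1, ddt_const]
    · by_contra hall
      push Not at hall
      refine hmax fun z => ?_
      obtain ⟨v, hv⟩ := exists_pow_of_ddt_eq_zero pc (hall z)
      refine ⟨v, ?_⟩
      rw [pow_succ', pow_mul, hv]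
      exact hroot z
  · haveI : CharZero k := CharP.charP_to_charZero k
    refine ⟨1, (f.stalkMap (genericPoint (P 1 k))).hom, one_pos, fun a b => by simp only [pow_one],
      fun z => pow_one _, fun c => ?_, z₀, fun h => ?_⟩
    · exact (congrArg ddt (stalkMap_toStalk hf _ c)).trans (ddt_const c)
    · obtain ⟨c, hc⟩ := exists_const_of_ddt_eq_zero h
      exact hz₀ c hc

variable [Smooth p] [QuasiSeparated p]

/-- The differentials pulled back along a nonconstant map from the line are not trivial. -/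
theorem not_trivial [IsAlgClosed k] (hf : f ≫ p = pr 1 k) (hnc : ¬ ∃ x : X, Set.range f.base ⊆ {x}) {r : ℕ}
    (D : Fin r → ((Scheme.Modules.pullback f).obj (Omega.sheaf p) ⟶ Coh.structureModule (P 1 k)))
    (hD : ∀ v, (∀ l, st (D l) (genericPoint (P 1 k)) v = 0) → v = 0)
    (hsurj : ∀ x m, ∃ v, ∀ l, st (D l) x v = (if l = m then one (P 1 k) x else 0)) : False := by
  obtain ⟨q, ρ, hq0, hq, hρ, hρc, z₀, hz₀⟩ := exists_root hf hnc
  obtain ⟨P0, hP0⟩ := exists_infinity (k := k)
  haveI : IsProper (pr 1 k) := Groth.L16.ProjSpace.isProper_toSpec (n := 1) (R := k)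
  have hF : IsField Γ(P 1 k, ⊤) := isField_of_universallyClosed (K := k) (pr 1 k)
  refine hz₀ (pow_eq_zero_iff hq0.ne' |>.1 (eq_zero_of_trivial hf (fun g => ?_) D hD hsurj
    (fun z => ddt (ρ z) ^ q) (fun z z' => ?_) (fun z z' => ?_) (fun c => ?_) P0 (fun Q W hP hη b => ?_) z₀))
  · rcases eq_or_ne g 0 with h | h
    · exact Or.inl h
    · exact Or.inr (IsUnit.of_mul_eq_one _ (hF.mul_inv_cancel h).choose_spec)
  · show ddt (ρ (z + z')) ^ q = _
    rw [map_add, ddt_add, hq]
  · show ddt (ρ (z * z')) ^ q = _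
    rw [map_mul, ddt_mul, hq, mul_pow, mul_pow, hρ, hρ]
    ring
  · show ddt (ρ _) ^ q = 0
    rw [hρc, zero_pow hq0.ne']
  · have hint : ∃ a, toK Q a = ρ (X.presheaf.germ W _ hη b) := by
      haveI := (Groth.L21.P1.normal_P1 (k := k) Q).2
      refine (IsIntegrallyClosed.isIntegral_iff (R := (P 1 k).presheaf.stalk Q) (K := KP k)).1
        (IsIntegral.of_pow hq0 ?_)
      have h : ρ (X.presheaf.germ W _ hη b) ^ q = algebraMap ((P 1 k).presheaf.stalk Q) (KP k)
          ((P 1 k).presheaf.germ (f ⁻¹ᵁ W) Q hP (f.app W b)) := by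
        rw [hρ, Scheme.Hom.germ_stalkMap_apply]
        exact (toK_germ Q hP hη _).symm
      rw [h]
      exact isIntegral_algebraMap
    obtain ⟨a, ha⟩ := hint
    obtain ⟨c, hc, hc0⟩ := exists_ddt_rep Q _ a ha
    refine ⟨c ^ q, ?_, fun hPe hu => ?_⟩
    · rw [map_pow]
      exact congrArg (· ^ q) hc
    · subst hPe
      exact (IsLocalRing.mem_maximalIdeal _).1 (hc0 hP0) ((isUnit_pow_iff hq0.ne').1 hu)

end Groth.L21.FreeCurve
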