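import Groth.Agent.L21.FreeCurve.Arc
import Groth.Agent.L12.FrobLift.Chart
import Groth.Agent.L22.ZeroLocus.Ideal
import Groth.Agent.L22.CotSmooth.Scheme
import Groth.Agent.L19.ProjBdl.Basis
import Groth.Agent.L07.SyntOverField

/-!
Pulled back germs, velocities of homomorphisms `f^* Ω → O`, and arcs at points.
-/

set_option autoImplicit false
set_option backward.isDefEq.respectTransparency false
set_option backward.isDefEq.respectTransparency.types false
set_option linter.style.haveILetI false
universe u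

open CategoryTheory CategoryTheory.Limits AlgebraicGeometry TopologicalSpace Opposite
open OmegaSh (dSect)
open Groth.L18.Frame (rs ro pull pull_rs pull_smul)
open Groth.L19.ProjBdl (IsBasisOn coord lc lc_coord)
open Groth.L22.ZeroLocus (stalkBasis stalkBasis_apply)
open Groth.L07.SyntOverField (toStalk toStalk_eq)
open Groth.L12.FrobLift (baseHom)

noncomputable section

namespace Groth.L21.FreeCurve

variable {k : Type u} [Field k] {X C : Scheme.{u}} {p : X ⟶ Spec (CommRingCat.of k)}
  {q : C ⟶ Spec (CommRingCat.of k)} {f : C ⟶ X}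

theorem toStalk_apply (p : X ⟶ Spec (CommRingCat.of k)) {x : X} {W : X.Opens} (hx : x ∈ W) (c : k) :
    toStalk p x c = X.presheaf.germ W x hx (baseHom p W c) := by
  rw [toStalk_eq p x W hx]
  rfl

theorem stalkMap_toStalk (hf : f ≫ p = q) (P : C) (c : k) :
    f.stalkMap P (toStalk p (f P) c) = toStalk q P c := by
  rw [toStalk_apply p (W := ⊤) trivial, toStalk_apply q (W := ⊤) trivial, Scheme.Hom.germ_stalkMap_apply]
  subst hf
  simp [baseHom, Scheme.Hom.appLE]

/-- The germ at `P` of the pullback of a section. -/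
def pgerm (f : C ⟶ X) (M : X.Modules) {W : X.Opens} (P : C) (hP : f P ∈ W) (m : Γ(M, W)) :
    ((Scheme.Modules.pullback f).obj M).presheaf.stalk P :=
  ((Scheme.Modules.pullback f).obj M).presheaf.germ (f ⁻¹ᵁ W) P hP (pull f M W m)

theorem pgerm_add (M : X.Modules) {W : X.Opens} (P : C) (hP : f P ∈ W) (m m' : Γ(M, W)) :
    pgerm f M P hP (m + m') = pgerm f M P hP m + pgerm f M P hP m' := by
  simp only [pgerm, pull, map_add]

theorem pgerm_smul (M : X.Modules) {W : X.Opens} (P : C) (hP : f P ∈ W) (a : Γ(X, W)) (m : Γ(M, W)) :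
    pgerm f M P hP (a • m) = f.stalkMap P (X.presheaf.germ W (f P) hP a) • pgerm f M P hP m := by
  rw [pgerm, pull_smul, Groth.L20.ModStalk.germ_smul, Scheme.Hom.germ_stalkMap_apply]
  rfl

theorem pgerm_rs (M : X.Modules) {W W' : X.Opens} (h : W' ≤ W) (P : C) (hP : f P ∈ W') (m : Γ(M, W)) :
    pgerm f M P hP (rs M h m) = pgerm f M P (h hP) m := by
  rw [pgerm, pgerm, ← pull_rs, Groth.L20.ModStalk.germ_rs]

section Velocity

variable [QuasiSeparated p]
variable (D : (Scheme.Modules.pullback f).obj (Omega.sheaf p) ⟶ Coh.structureModule C)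

/-- The value of `D` on a differential, at a point. -/
def velW (P : C) {W : X.Opens} (hP : f P ∈ W) (b : Γ(X, W)) : C.presheaf.stalk P :=
  C.presheaf.germ (f ⁻¹ᵁ W) P hP
    (show Γ(C, f ⁻¹ᵁ W) from D.app (f ⁻¹ᵁ W) (pull f (Omega.sheaf p) W (dSect p W b)))

theorem velW_add (P : C) {W : X.Opens} (hP : f P ∈ W) (b b' : Γ(X, W)) :
    velW D P hP (b + b') = velW D P hP b + velW D P hP b' := by
  simp only [velW, OmegaSh.dSect_add, pull, map_add]

theorem velW_mul (P : C) {W : X.Opens} (hP : f P ∈ W) (b b' : Γ(X, W)) :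
    velW D P hP (b * b') = f.stalkMap P (X.presheaf.germ W (f P) hP b) * velW D P hP b' +
      f.stalkMap P (X.presheaf.germ W (f P) hP b') * velW D P hP b := by
  have hadd : ∀ m m', pull f (Omega.sheaf p) W (m + m') = pull f _ W m + pull f _ W m' := fun m m' => map_add _ m m'
  rw [velW, velW, velW, OmegaSh.dSect_mul, hadd, pull_smul, pull_smul, map_add (D.app _).hom,
    Scheme.Modules.Hom.app_smul, Scheme.Modules.Hom.app_smul, Scheme.Hom.germ_stalkMap_apply,
    Scheme.Hom.germ_stalkMap_apply]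
  refine (map_add (C.presheaf.germ (f ⁻¹ᵁ W) P hP).hom _ _).trans ?_
  exact congrArg₂ (· + ·) (map_mul _ _ _) (map_mul _ _ _)

theorem velW_base (P : C) {W : X.Opens} (hP : f P ∈ W) (c : k) : velW D P hP (baseHom p W c) = 0 := by
  have h1 : baseHom p W c = ro (le_top : W ≤ p ⁻¹ᵁ ⊤)
      (p.app ⊤ ((Scheme.ΓSpecIso (CommRingCat.of k)).inv c)) := rfl
  have h2 : dSect p W (baseHom p W c) = 0 := by
    rw [h1]
    refine (OmegaSh.dSect_map p (le_top : W ≤ p ⁻¹ᵁ ⊤) _).trans ?_
    exact (congrArg _ (OmegaSh.dSect_app p ⊤ _)).trans (map_zero _)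
  rw [velW, h2]
  simp only [pull, map_zero]

theorem velW_ro (P : C) {W W' : X.Opens} (h : W' ≤ W) (hP : f P ∈ W') (b : Γ(X, W)) :
    velW D P hP (ro h b) = velW D P (h hP) b := by
  have h1 : dSect p W' (ro h b) = rs (Omega.sheaf p) h (dSect p W b) := OmegaSh.dSect_map p h b
  rw [velW, h1, ← pull_rs]
  exact (congrArg (C.presheaf.germ (f ⁻¹ᵁ W') P hP).hom (Groth.L19.ProjBdl.app_rs D (f.preimage_mono h) _)).trans
    (C.presheaf.germ_res_apply (homOfLE (f.preimage_mono h)) P hP _)

theorem velW_specializes {P η : C} (hη : η ⤳ P) {W : X.Opens} (hP : f P ∈ W) (b : Γ(X, W)) :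
    C.presheaf.stalkSpecializes hη (velW D P hP b) =
      velW D η ((hη.map f.continuous).mem_open W.2 hP) b :=
  C.presheaf.germ_stalkSpecializes_apply _ _ _

variable (hf : f ≫ p = q)

include hf in
/-- The velocity of `D` at a point, as a derivation of the local ring. -/
theorem exists_velocity (P : C) :
    letI := (toStalk p (f P)).hom.toAlgebra
    letI := (toStalk q P).hom.toAlgebra
    ∃ δ : X.presheaf.stalk (f P) →ₗ[k] C.presheaf.stalk P,
      (∀ b b', δ (b * b') = f.stalkMap P b * δ b' + f.stalkMap P b' * δ b) ∧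
      ∀ (W : X.Opens) (hP : f P ∈ W) (b : Γ(X, W)), δ (X.presheaf.germ W (f P) hP b) = velW D P hP b := by
  letI := (toStalk p (f P)).hom.toAlgebra
  letI := (toStalk q P).hom.toAlgebra
  choose W hP b hb using fun z : X.presheaf.stalk (f P) => X.presheaf.exists_germ_eq z
  let δ : X.presheaf.stalk (f P) → C.presheaf.stalk P := fun z => velW D P (hP z) (b z)
  have key : ∀ (W' : X.Opens) (hP' : f P ∈ W') (b' : Γ(X, W')),
      δ (X.presheaf.germ W' (f P) hP' b') = velW D P hP' b' := by
    intro W' hP' b'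
    obtain ⟨V, hV, i₁, i₂, he⟩ := X.presheaf.germ_eq (f P) (hP _) hP' _ _ (hb (X.presheaf.germ W' (f P) hP' b'))
    show velW D P _ _ = _
    rw [← velW_ro D P i₁.le hV, ← velW_ro D P i₂.le hV]
    exact congrArg (velW D P hV) he
  have hcomm : ∀ z z', ∃ (V : X.Opens) (hV : f P ∈ V) (c c' : Γ(X, V)),
      X.presheaf.germ V (f P) hV c = z ∧ X.presheaf.germ V (f P) hV c' = z' := fun z z' =>
    ⟨W z ⊓ W z', ⟨hP z, hP z'⟩, ro inf_le_left (b z), ro inf_le_right (b z'),
      (X.presheaf.germ_res_apply (homOfLE inf_le_left) (f P) _ (b z)).trans (hb z),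
      (X.presheaf.germ_res_apply (homOfLE inf_le_right) (f P) _ (b z')).trans (hb z')⟩
  have hadd : ∀ z z', δ (z + z') = δ z + δ z' := fun z z' => by
    obtain ⟨V, hV, c, c', rfl, rfl⟩ := hcomm z z'
    rw [← map_add, key, key, key, velW_add]
  have hmul : ∀ z z', δ (z * z') = f.stalkMap P z * δ z' + f.stalkMap P z' * δ z := fun z z' => by
    obtain ⟨V, hV, c, c', rfl, rfl⟩ := hcomm z z'
    rw [← map_mul, key, key, key, velW_mul]
  refine ⟨{ toFun := δ, map_add' := hadd, map_smul' := fun c z => ?_ }, hmul, key⟩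
  have h0 : δ (toStalk p (f P) c) = 0 := by
    rw [toStalk_apply p (W := ⊤) trivial, key, velW_base]
  rw [RingHom.id_apply, Algebra.smul_def, Algebra.smul_def, hmul]
  rw [show algebraMap k (X.presheaf.stalk (f P)) c = toStalk p (f P) c from rfl, h0, mul_zero, add_zero,
    stalkMap_toStalk hf]
  rfl

end Velocity

/-- A unit constant term gives a unit arc. -/
theorem isUnit_of_cf0 {K : Type u} [Field K] {N : ℕ} (hN : 0 < N) {u : Q K N} (hu : cf N 0 u ≠ 0) : IsUnit u := by
  have h1 : cf N 0 (u - cst N (cf N 0 u)) = 0 := by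
    show cf0 hN (u - cst N (cf N 0 u)) = 0
    rw [map_sub, sub_eq_zero]
    exact (cf_cst hN _).symm
  obtain ⟨w, hw⟩ := eps_dvd_of_cf0 hN h1
  rw [sub_eq_iff_eq_add.1 hw]
  exact IsNilpotent.isUnit_add_right_of_commute ⟨N, by rw [mul_pow, eps_pow, zero_mul]⟩
    (((isUnit_iff_ne_zero.2 hu).map (cst N))) (Commute.all _ _)

variable [IsIntegral C] [Smooth p]

/-- An arc at a point, extended to the local ring at the image of the generic point. -/
theorem exists_arc_at (hf : f ≫ p = q) (P : C) {W : X.Opens} (hW : IsAffineOpen W) (hP : f P ∈ W)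
    (v : X.presheaf.stalk (f P) → C.presheaf.stalk P)
    (hv : letI := (toStalk p (f P)).hom.toAlgebra
      letI := (toStalk q P).hom.toAlgebra
      ∃ δ : X.presheaf.stalk (f P) →ₗ[k] C.presheaf.stalk P, ⇑δ = v ∧
        ∀ b b', δ (b * b') = f.stalkMap P b * δ b' + f.stalkMap P b' * δ b)
    (hη : f (genericPoint C) ∈ W) (N : ℕ) (hN : 2 ≤ N) :
    letI := (toStalk p (f (genericPoint C))).hom.toAlgebra
    letI := (toStalk q (genericPoint C)).hom.toAlgebra
    ∃ γ : X.presheaf.stalk (f (genericPoint C)) →ₐ[k] Q C.functionField N,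
      (∀ z, cf N 0 (γ z) = f.stalkMap (genericPoint C) z) ∧
      (∀ b : Γ(X, W), cf N 1 (γ (X.presheaf.germ W _ hη b)) =
        C.presheaf.stalkSpecializes ((genericPoint_spec C).specializes trivial) (v (X.presheaf.germ W (f P) hP b))) ∧
      ∀ b : Γ(X, W), ∀ r < N, cf N r (γ (X.presheaf.germ W _ hη b)) ∈
        Set.range (C.presheaf.stalkSpecializes ((genericPoint_spec C).specializes (Set.mem_univ P))) := by
  obtain ⟨δ, rfl, hδ⟩ := hv
  letI := (toStalk p (f (genericPoint C))).hom.toAlgebra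
  letI := (toStalk q (genericPoint C)).hom.toAlgebra
  letI := (toStalk p (f P)).hom.toAlgebra
  letI := (toStalk q P).hom.toAlgebra
  letI : Algebra k Γ(X, W) := (baseHom p W).toAlgebra
  have hsm : (baseHom p W).Smooth := RingHom.Smooth.respectsIso.2 _
    (Scheme.ΓSpecIso (CommRingCat.of k)).symm.commRingCatIsoToRingEquiv
    (HasRingHomProperty.appLE @Smooth p inferInstance ⟨⊤, isAffineOpen_top _⟩ ⟨W, hW⟩ le_top)
  haveI : Algebra.Smooth k Γ(X, W) := hsm
  let hsp : genericPoint C ⤳ P := (genericPoint_spec C).specializes trivial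
  let ι : C.presheaf.stalk P →ₐ[k] C.functionField :=
    { (C.presheaf.stalkSpecializes hsp).hom with
      commutes' := fun c => by
        show C.presheaf.stalkSpecializes hsp (toStalk q P c) = toStalk q (genericPoint C) c
        rw [toStalk_apply q (W := ⊤) trivial, toStalk_apply q (W := ⊤) trivial]
        exact C.presheaf.germ_stalkSpecializes_apply _ _ _ }
  let gW : Γ(X, W) →ₐ[k] X.presheaf.stalk (f P) :=
    { (X.presheaf.germ W (f P) hP).hom with
      commutes' := fun c => (toStalk_apply p hP c).symm }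
  let fP : X.presheaf.stalk (f P) →ₐ[k] C.presheaf.stalk P :=
    { (f.stalkMap P).hom with commutes' := fun c => stalkMap_toStalk hf P c }
  obtain ⟨γP, h0P, h1P⟩ := exists_lift (fP.comp gW) (δ.comp gW.toLinearMap)
    (fun b b' => by
      show δ (gW (b * b')) = fP (gW b) * δ (gW b') + fP (gW b') * δ (gW b)
      rw [map_mul]
      exact hδ _ _) N hN
  let γ₀ : Γ(X, W) →ₐ[k] Q C.functionField N := (mapQ N ι).comp γP
  have h00 : ∀ b, cf N 0 (γ₀ b) = f.stalkMap (genericPoint C) (X.presheaf.germ W _ hη b) := fun b => by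
    show cf N 0 (mapQ N ι (γP b)) = _
    rw [cf_mapQ (by omega), h0P]
    show C.presheaf.stalkSpecializes hsp (f.stalkMap P (X.presheaf.germ W (f P) hP b)) = _
    rw [Scheme.Hom.germ_stalkMap_apply, Scheme.Hom.germ_stalkMap_apply]
    exact C.presheaf.germ_stalkSpecializes_apply _ _ _
  letI := X.presheaf.algebra_section_stalk (⟨f (genericPoint C), hη⟩ : W)
  haveI := hW.isLocalization_stalk (⟨f (genericPoint C), hη⟩ : W)
  let M := (hW.primeIdealOf ⟨f (genericPoint C), hη⟩).asIdeal.primeCompl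
  have hunit : ∀ s : M, IsUnit (γ₀ s) := fun s => by
    refine isUnit_of_cf0 (by omega) ?_
    rw [h00]
    exact ((IsLocalization.map_units (X.presheaf.stalk (f (genericPoint C))) s).map
      (f.stalkMap (genericPoint C)).hom).ne_zero
  let γ : X.presheaf.stalk (f (genericPoint C)) →ₐ[k] Q C.functionField N :=
    { IsLocalization.lift (M := M) (g := γ₀.toRingHom) hunit with
      commutes' := fun c => by
        show IsLocalization.lift (M := M) (g := γ₀.toRingHom) hunit (toStalk p (f (genericPoint C)) c) = _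
        rw [toStalk_apply p hη]
        exact (IsLocalization.lift_eq hunit _).trans (γ₀.commutes c) }
  have hγ : ∀ b, γ (X.presheaf.germ W _ hη b) = γ₀ b := fun b => IsLocalization.lift_eq hunit b
  refine ⟨γ, fun z => ?_, fun b => ?_, fun b r hr => ⟨cf N r (γP b), ?_⟩⟩
  · refine congrArg (fun g : X.presheaf.stalk (f (genericPoint C)) →+* C.functionField => g z)
      (IsLocalization.ringHom_ext M (j := (cf0 (by omega : 0 < N)).comp γ.toRingHom)
        (k := (f.stalkMap (genericPoint C)).hom) (RingHom.ext fun b => ?_))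
    show cf N 0 (γ (X.presheaf.germ W _ hη b)) = _
    rw [hγ, h00]
    rfl
  · rw [hγ]
    show cf N 1 (mapQ N ι (γP b)) = _
    rw [cf_mapQ (by omega), h1P]
    rfl
  · rw [hγ]
    exact (cf_mapQ hr ι (γP b)).symm

omit [Smooth p] in
/-- Velocities agreeing on an affine open agree on the local ring. -/
theorem velocity_ext {W : X.Opens} (hW : IsAffineOpen W) (hη : f (genericPoint C) ∈ W)
    (a b : X.presheaf.stalk (f (genericPoint C)) → C.functionField)
    (ha : ∀ z z', a (z * z') = f.stalkMap (genericPoint C) z * a z' + a z * f.stalkMap (genericPoint C) z')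
    (hb : ∀ z z', b (z * z') = f.stalkMap (genericPoint C) z * b z' + b z * f.stalkMap (genericPoint C) z')
    (h : ∀ s : Γ(X, W), a (X.presheaf.germ W _ hη s) = b (X.presheaf.germ W _ hη s))
    (z : X.presheaf.stalk (f (genericPoint C))) : a z = b z := by
  letI := X.presheaf.algebra_section_stalk (⟨f (genericPoint C), hη⟩ : W)
  haveI := hW.isLocalization_stalk (⟨f (genericPoint C), hη⟩ : W)
  obtain ⟨⟨c, s⟩, hs⟩ := IsLocalization.surj (hW.primeIdealOf ⟨f (genericPoint C), hη⟩).asIdeal.primeCompl z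
  have hne : f.stalkMap (genericPoint C) (X.presheaf.germ W _ hη (s : Γ(X, W))) ≠ 0 :=
    ((IsLocalization.map_units (X.presheaf.stalk (f (genericPoint C))) s).map
      (f.stalkMap (genericPoint C)).hom).ne_zero
  have hs' : z * X.presheaf.germ W _ hη (s : Γ(X, W)) = X.presheaf.germ W _ hη c := hs
  have h1 := h c
  rw [← hs', ha, hb, h (s : Γ(X, W)), add_right_inj] at h1
  exact mul_right_cancel₀ hne h1

end Groth.L21.FreeCurve
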