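import Groth.Agent.L21.FreeCurve.Deriv
import Groth.Agent.L21.FreeCurve.Main

/-!
If the pulled back differentials are trivial, derivations along the map that are regular and vanish somewhere vanish.
-/

set_option autoImplicit false
set_option backward.isDefEq.respectTransparency false
set_option backward.isDefEq.respectTransparency.types false
set_option linter.style.haveILetI false
universe u

open CategoryTheory CategoryTheory.Limits AlgebraicGeometry TopologicalSpace Opposite
open OmegaSh (dSect)
open Groth.L18.Frame (rs ro pull)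
open Groth.L19.ProjBdl (IsBasisOn)
open Groth.L22.ZeroLocus (stalkBasis stalkBasis_apply)
open Groth.L07.SyntOverField (toStalk toStalk_eq)
open Groth.L12.FrobLift (baseHom)
open Groth.L21.RR (st st_germ one bijective_smul_one)

noncomputable section

namespace Groth.L21.FreeCurve

/-- An additive map satisfying the Leibniz rule that vanishes on constants and on the generators of a basis of
differentials is zero. -/
theorem derivation_eq_zero {A B K : Type u} [CommRing A] [CommRing B] [Algebra A B] [CommRing K] (φ : B →+* K)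
    (R : B → K) (hadd : ∀ b b', R (b + b') = R b + R b') (hmul : ∀ b b', R (b * b') = φ b * R b' + φ b' * R b)
    (hA : ∀ a, R (algebraMap A B a) = 0) {ι : Type*} (bΩ : Module.Basis ι B Ω[B⁄A]) (x : ι → B)
    (hb : ∀ i, bΩ i = KaehlerDifferential.D A B (x i)) (h0 : ∀ i, R (x i) = 0) (b : B) : R b = 0 := by
  letI : Algebra B K := φ.toAlgebra
  letI : Algebra A K := (φ.comp (algebraMap A B)).toAlgebra
  haveI : IsScalarTower A B K := IsScalarTower.of_algebraMap_eq fun a => rfl
  let R₁ : B →ₗ[A] K :=
    { toFun := R
      map_add' := hadd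
      map_smul' := fun a b => by
        rw [RingHom.id_apply, Algebra.smul_def, Algebra.smul_def, hmul, hA, mul_zero, add_zero]
        rfl }
  let Rd : Derivation A B K := Derivation.mk' R₁ fun b b' => by
    show R (b * b') = b • R b' + b' • R b
    rw [hmul, Algebra.smul_def, Algebra.smul_def]
    rfl
  have hlift : Rd.liftKaehlerDifferential = 0 := bΩ.ext fun i => by
    rw [hb, Derivation.liftKaehlerDifferential_comp_D, LinearMap.zero_apply]
    exact h0 i
  have h := Rd.liftKaehlerDifferential_comp_D b
  rw [hlift, LinearMap.zero_apply] at h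
  exact h.symm

/-- The embedding of a local ring in the function field. -/
def toK {C : Scheme.{u}} [IsIntegral C] (P : C) : C.presheaf.stalk P →+* C.functionField :=
  (C.presheaf.stalkSpecializes ((genericPoint_spec C).specializes (Set.mem_univ P))).hom

theorem toK_injective {C : Scheme.{u}} [IsIntegral C] (P : C) : Function.Injective (toK P) :=
  IsFractionRing.injective (C.presheaf.stalk P) C.functionField

theorem toK_germ {C : Scheme.{u}} [IsIntegral C] (P : C) {W : C.Opens} (hP : P ∈ W)
    (hη : genericPoint C ∈ W) (s : Γ(C, W)) :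
    toK P (C.presheaf.germ W P hP s) = C.presheaf.germ W (genericPoint C) hη s :=
  C.presheaf.germ_stalkSpecializes_apply _ _ _

/-- An element of the function field lying in every local ring is a global function. -/
theorem exists_top_of_mem_stalks {C : Scheme.{u}} [IsIntegral C] (z : C.functionField)
    (h : ∀ P : C, ∃ a, toK P a = z) :
    ∃ t : Γ(C, ⊤), C.presheaf.germ ⊤ (genericPoint C) trivial t = z := by
  choose a ha using h
  choose N hN s hs using fun P => C.presheaf.exists_germ_eq (a P)
  have hg : ∀ P, genericPoint C ∈ N P := fun P => ((genericPoint_spec C).specializes trivial).mem_open (N P).2 (hN P)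
  have hs' : ∀ P, C.presheaf.germ (N P) (genericPoint C) (hg P) (s P) = z := fun P => by
    rw [← toK_germ P (hN P) (hg P), hs, ha]
  obtain ⟨t, ht, -⟩ := TopCat.Sheaf.existsUnique_gluing' C.sheaf N ⊤ (fun P => homOfLE le_top)
    (fun P _ => Opens.mem_iSup.mpr ⟨P, hN P⟩) s fun P P' => by
      apply germ_injective_of_isIntegral C (genericPoint C) (show genericPoint C ∈ N P ⊓ N P' from ⟨hg P, hg P'⟩)
      exact ((C.presheaf.germ_res_apply _ _ _ _).trans (hs' P)).trans
        ((C.presheaf.germ_res_apply _ _ _ _).trans (hs' P')).symm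
  refine ⟨t, ?_⟩
  rw [← hs' (genericPoint C), ← ht (genericPoint C)]
  exact (C.presheaf.germ_res_apply _ _ _ t).symm

variable {k : Type u} [Field k] {X C : Scheme.{u}} {p : X ⟶ Spec (CommRingCat.of k)}
  {q : C ⟶ Spec (CommRingCat.of k)} {f : C ⟶ X} [IsIntegral C] [Smooth p] [QuasiSeparated p]

/-- A derivation along `f`, regular everywhere and vanishing at one point, is zero when `f^* Ω` is trivial. -/
theorem eq_zero_of_trivial (hf : f ≫ p = q) (hconst : ∀ g : Γ(C, ⊤), g = 0 ∨ IsUnit g) {r : ℕ}
    (D : Fin r → ((Scheme.Modules.pullback f).obj (Omega.sheaf p) ⟶ Coh.structureModule C))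
    (hD : ∀ v, (∀ l, st (D l) (genericPoint C) v = 0) → v = 0)
    (hsurj : ∀ x m, ∃ v, ∀ l, st (D l) x v = (if l = m then one C x else 0))
    (Δ : X.presheaf.stalk (f (genericPoint C)) → C.functionField)
    (hΔadd : ∀ z z', Δ (z + z') = Δ z + Δ z')
    (hΔ : ∀ z z', Δ (z * z') = f.stalkMap (genericPoint C) z * Δ z' + Δ z * f.stalkMap (genericPoint C) z')
    (hΔc : ∀ c, Δ (toStalk p (f (genericPoint C)) c) = 0)
    (P0 : C)
    (hreg : ∀ (P : C) (W : X.Opens) (_ : f P ∈ W) (hη : f (genericPoint C) ∈ W) (b : Γ(X, W)),
      ∃ c : C.presheaf.stalk P, toK P c = Δ (X.presheaf.germ W _ hη b) ∧ (P = P0 → ¬ IsUnit c))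
    (z : X.presheaf.stalk (f (genericPoint C))) : Δ z = 0 := by
  classical
  letI := (toStalk p (f (genericPoint C))).hom.toAlgebra
  letI := (toStalk q (genericPoint C)).hom.toAlgebra
  choose δ hδ hδW using fun l => exists_velocity (D l) hf (genericPoint C)
  have key : ∀ P : C, ∃ e : Fin r → C.presheaf.stalk P, (P = P0 → ∀ j, ¬ IsUnit (e j)) ∧
      (∀ z, Δ z = ∑ j, toK P (e j) * δ j z) ∧
      ∀ g : Fin r → C.functionField, (∀ z, ∑ j, g j * δ j z = 0) → g = 0 := by
    intro P
    let sp : genericPoint C ⤳ P := (genericPoint_spec C).specializes trivial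
    obtain ⟨W, hW, hPW, hsW⟩ := Groth.L12.FrobLift.exists_standard p (f P)
    have hηW : f (genericPoint C) ∈ W := (sp.map f.continuous).mem_open W.2 hPW
    letI : Algebra k Γ(X, W) := (baseHom p W).toAlgebra
    haveI : Algebra.IsStandardSmooth k Γ(X, W) := hsW
    obtain ⟨ι₀, σ₀, hσ₀, hι₀, ⟨Sp⟩⟩ := (inferInstance : Algebra.IsStandardSmooth k Γ(X, W)).out
    let n := Nat.card ((Set.range Sp.map)ᶜ : Set ι₀)
    let bΩ : Module.Basis (Fin n) Γ(X, W) Ω[Γ(X, W)⁄k] := Sp.basisKaehler.reindex (Finite.equivFin _)
    let x : Fin n → Γ(X, W) := fun j => Sp.val ((Finite.equivFin _).symm j).1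
    have hbΩ : ∀ j, bΩ j = KaehlerDifferential.D k Γ(X, W) (x j) := fun j => by
      rw [Module.Basis.reindex_apply, Algebra.SubmersivePresentation.basisKaehler_apply]
    have hω : IsBasisOn (Omega.sheaf p) W fun j => dSect p W (x j) := fun V h =>
      Groth.L12.FrobLift.isBasisS_dSect p hW x ⟨bΩ, hbΩ⟩ V h
    let BP := stalkBasis (hω.pullback f) (show P ∈ f ⁻¹ᵁ W from hPW)
    let Bη := stalkBasis (hω.pullback f) (show genericPoint C ∈ f ⁻¹ᵁ W from hηW)
    let xη : Fin n → X.presheaf.stalk (f (genericPoint C)) := fun i => X.presheaf.germ W _ hηW (x i)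
    choose v hv using hsurj P
    let c : Fin r → Fin n → C.presheaf.stalk P := fun j i => BP.repr (v j) i
    choose w hw hw0 using fun i => hreg P W hPW hηW (x i)
    have hvP : ∀ l i, st (D l) P (BP i) = velW (D l) P hPW (x i) • one C P := fun l i => by
      rw [stalkBasis_apply]
      exact (st_germ _ _ _).trans (germ_structure (U := f ⁻¹ᵁ W) hPW _)
    have hvη : ∀ l i, st (D l) (genericPoint C) (Bη i) = δ l (xη i) • one C (genericPoint C) := fun l i => by
      rw [stalkBasis_apply, hδW l W hηW (x i)]
      exact (st_germ _ _ _).trans (germ_structure (U := f ⁻¹ᵁ W) hηW _)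
    have hinvP : ∀ j l, ∑ i, c j i * velW (D l) P hPW (x i) = if l = j then 1 else 0 := fun j l => by
      refine (bijective_smul_one P).1 ?_
      have h1 : st (D l) P (v j) = ∑ i, (c j i * velW (D l) P hPW (x i)) • one C P := by
        have h2 := congrArg (st (D l) P) (BP.sum_repr (v j))
        rw [map_sum] at h2
        refine h2.symm.trans (Finset.sum_congr rfl fun i _ => ?_)
        rw [map_smul, hvP, mul_smul]
      show (∑ i, c j i * velW (D l) P hPW (x i)) • one C P = (if l = j then (1 : C.presheaf.stalk P) else 0) • one C P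
      rw [Finset.sum_smul, ← h1, hv j l, ite_smul, one_smul, zero_smul]
    have hinv : ∀ j l, ∑ i, toK P (c j i) * δ l (xη i) = if l = j then 1 else 0 := fun j l => by
      have h1 := congrArg (toK P) (hinvP j l)
      rw [map_sum] at h1
      refine Eq.trans (Finset.sum_congr rfl fun i _ => ?_) (h1.trans (by split_ifs <;> simp))
      rw [map_mul, hδW l W hηW (x i)]
      exact congrArg (toK P (c j i) * ·) (velW_specializes (D l) sp hPW (x i)).symm
    have hinv' : ∀ i i', ∑ j, δ j (xη i) * toK P (c j i') = if i' = i then 1 else 0 := by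
      intro i i'
      have hu : Bη i = ∑ i', (∑ j, δ j (xη i) * toK P (c j i')) • Bη i' := by
        refine sub_eq_zero.1 (hD _ fun l => ?_)
        rw [map_sub, map_sum, hvη, sub_eq_zero,
          Finset.sum_congr rfl fun i' _ => by rw [map_smul, hvη, ← mul_smul], ← Finset.sum_smul]
        refine congrArg (· • one C (genericPoint C)) ?_
        simp only [Finset.sum_mul, mul_assoc]
        rw [Finset.sum_comm]
        simp only [← Finset.mul_sum, hinv]
        simp
      have h2 := congrArg (fun u => Bη.repr u i') hu
      simp only [Bη.repr_sum_self, Bη.repr_self, Finsupp.single_apply] at h2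
      rw [← h2]
      exact if_congr eq_comm rfl rfl
    refine ⟨fun j => ∑ i, c j i * w i, fun hP0 j hu => ?_, fun z => ?_, fun g hg => funext fun m => ?_⟩
    · exact (IsLocalRing.maximalIdeal.isMaximal _).ne_top (Ideal.eq_top_of_isUnit_mem _
        (Ideal.sum_mem _ fun i _ => Ideal.mul_mem_left _ _
          ((IsLocalRing.mem_maximalIdeal _).2 (hw0 i hP0))) hu)
    · have hext : ∀ b : Γ(X, W), Δ (X.presheaf.germ W _ hηW b) -
          ∑ j, toK P (∑ i, c j i * w i) * δ j (X.presheaf.germ W _ hηW b) = 0 := by
        refine derivation_eq_zero (A := k) ((f.stalkMap (genericPoint C)).hom.comp (X.presheaf.germ W _ hηW).hom) _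
          (fun b b' => ?_) (fun b b' => ?_) (fun a => ?_) bΩ x hbΩ (fun i => ?_)
        · simp only [map_add, hΔadd, mul_add, Finset.sum_add_distrib]
          abel
        · simp only [map_mul, RingHom.comp_apply]
          rw [hΔ, Finset.sum_congr rfl fun j _ => by rw [hδ, mul_add], Finset.sum_add_distrib, mul_sub, mul_sub,
            Finset.mul_sum, Finset.mul_sum]
          rw [Finset.sum_congr rfl fun j _ => mul_left_comm (toK P (∑ i, c j i * w i)) _ _]
          rw [Finset.sum_congr rfl fun j _ => mul_left_comm (toK P (∑ i, c j i * w i)) _ _]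
          ring
        · show Δ (X.presheaf.germ W _ hηW (baseHom p W a)) - _ = 0
          rw [← toStalk_apply p hηW, hΔc, zero_sub, neg_eq_zero]
          refine Finset.sum_eq_zero fun j _ => ?_
          show _ * δ j (X.presheaf.germ W _ hηW (baseHom p W a)) = 0
          rw [hδW j W hηW, velW_base, mul_zero]
        · show Δ (xη i) - ∑ j, toK P (∑ i', c j i' * w i') * δ j (xη i) = 0
          rw [sub_eq_zero]
          symm
          calc ∑ j, toK P (∑ i', c j i' * w i') * δ j (xη i)
              = ∑ j, ∑ i', δ j (xη i) * toK P (c j i') * Δ (xη i') := by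
                refine Finset.sum_congr rfl fun j _ => ?_
                rw [map_sum, Finset.sum_mul]
                refine Finset.sum_congr rfl fun i' _ => ?_
                rw [map_mul, hw i']
                ring
            _ = _ := by
                rw [Finset.sum_comm]
                simp only [← Finset.sum_mul, hinv']
                simp
      refine velocity_ext hW hηW Δ (fun z => ∑ j, toK P (∑ i, c j i * w i) * δ j z) hΔ (fun z z' => ?_)
        (fun b => sub_eq_zero.1 (hext b)) z
      show ∑ j, _ = _ * ∑ j, _ + (∑ j, _) * _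
      rw [Finset.mul_sum, Finset.sum_mul, ← Finset.sum_add_distrib]
      exact Finset.sum_congr rfl fun j _ => by rw [hδ]; ring
    · calc g m = ∑ j, g j * (if j = m then 1 else 0) := by simp
        _ = ∑ j, ∑ i, toK P (c m i) * (g j * δ j (xη i)) := Finset.sum_congr rfl fun j _ => by
            rw [← hinv m j, Finset.mul_sum]
            exact Finset.sum_congr rfl fun i _ => by ring
        _ = (0 : C.functionField) := by
            rw [Finset.sum_comm]
            simp only [← Finset.mul_sum, hg, mul_zero, Finset.sum_const_zero]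
  choose e he0 heq hu using key
  have hsame : ∀ P j, toK P (e P j) = toK P0 (e P0 j) := fun P j => by
    have h1 := hu P0 (fun j => toK P (e P j) - toK P0 (e P0 j)) fun z => by
      simp only [sub_mul, Finset.sum_sub_distrib, ← heq, sub_self]
    exact sub_eq_zero.1 (congrFun h1 j)
  rw [heq P0 z]
  refine Finset.sum_eq_zero fun j _ => ?_
  obtain ⟨t, ht⟩ := exists_top_of_mem_stalks (toK P0 (e P0 j)) fun P => ⟨e P j, hsame P j⟩
  rcases hconst t with rfl | ht1
  · rw [map_zero] at ht
    rw [← ht, zero_mul]
  · refine absurd ?_ (he0 P0 rfl j)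
    rw [← toK_injective P0 ((toK_germ P0 (W := ⊤) trivial trivial t).trans ht)]
    exact ht1.map (C.presheaf.germ ⊤ P0 trivial).hom

end Groth.L21.FreeCurve
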