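import Mathlib.Algebra.Polynomial.AlgebraMap
import Mathlib.RingTheory.Smooth.Basic
import Mathlib.RingTheory.Derivation.Basic
import Mathlib.RingTheory.Polynomial.Basic
import Mathlib.RingTheory.Nilpotent.Basic

/-!
Truncated polynomial rings and arcs with a prescribed velocity.
-/

set_option autoImplicit false
set_option backward.isDefEq.respectTransparency false
universe u

open Polynomial

noncomputable section

namespace Groth.L21.FreeCurve

variable (k : Type u) [CommRing k] (A : Type u) [CommRing A] [Algebra k A]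

/-- `A[ε]/ε^n` -/
abbrev Q (n : ℕ) : Type u := A[X] ⧸ Ideal.span {(X : A[X]) ^ n}

variable {A}

/-- The class of the variable. -/
def eps (n : ℕ) : Q A n := Ideal.Quotient.mk _ X

/-- Constants. -/
def cst (n : ℕ) : A →+* Q A n := (Ideal.Quotient.mk _).comp C

theorem eps_pow (n : ℕ) : (eps n : Q A n) ^ n = 0 := by
  rw [eps, ← map_pow]
  exact Ideal.Quotient.eq_zero_iff_mem.2 (Ideal.subset_span rfl)

theorem exists_rep {n : ℕ} (u : Q A n) : ∃ p : A[X], Ideal.Quotient.mk _ p = u :=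
  Ideal.Quotient.mk_surjective u

theorem coeff_eq_of_mk_eq {n r : ℕ} (hr : r < n) {p q : A[X]}
    (h : Ideal.Quotient.mk (Ideal.span {(X : A[X]) ^ n}) p = Ideal.Quotient.mk _ q) :
    p.coeff r = q.coeff r := by
  obtain ⟨c, hc⟩ := Ideal.mem_span_singleton'.1 (Ideal.Quotient.eq.1 h)
  have := congrArg (fun f : A[X] => f.coeff r) hc
  simp only [coeff_mul_X_pow', coeff_sub, if_neg (not_le.2 hr)] at this
  exact sub_eq_zero.1 this.symm

/-- The `r`-th coefficient, for `r < n`. -/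
def cf (n r : ℕ) (u : Q A n) : A := if r < n then (exists_rep u).choose.coeff r else 0

theorem cf_mk {n r : ℕ} (hr : r < n) (p : A[X]) : cf n r (Ideal.Quotient.mk _ p) = p.coeff r := by
  rw [cf, if_pos hr]
  exact coeff_eq_of_mk_eq hr (exists_rep (Ideal.Quotient.mk (Ideal.span {(X : A[X]) ^ n}) p)).choose_spec

theorem cf_add {n : ℕ} (r : ℕ) (u v : Q A n) : cf n r (u + v) = cf n r u + cf n r v := by
  obtain ⟨p, rfl⟩ := exists_rep u
  obtain ⟨q, rfl⟩ := exists_rep v
  by_cases hr : r < n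
  · rw [← map_add, cf_mk hr, cf_mk hr, cf_mk hr, coeff_add]
  · simp [cf, if_neg hr]

theorem cf_zero (n r : ℕ) : cf n r (0 : Q A n) = 0 := by
  have := cf_add r (0 : Q A n) 0
  rw [add_zero] at this
  exact left_eq_add.1 this

theorem cf_sum {n : ℕ} (r : ℕ) {ι : Type*} (s : Finset ι) (f : ι → Q A n) :
    cf n r (∑ i ∈ s, f i) = ∑ i ∈ s, cf n r (f i) :=
  map_sum (AddMonoidHom.mk' (cf n r) (cf_add r)) f s

theorem cf_cst {n : ℕ} (hn : 0 < n) (a : A) : cf n 0 (cst n a) = a := by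
  rw [cst, RingHom.comp_apply, cf_mk hn, coeff_C_zero]

theorem cf_one_cst {n : ℕ} (hn : 1 < n) (a : A) : cf n 1 (cst n a) = 0 := by
  rw [cst, RingHom.comp_apply, cf_mk hn, coeff_C, if_neg one_ne_zero]

/-- The constant term is a ring homomorphism. -/
def cf0 {n : ℕ} (hn : 0 < n) : Q A n →+* A where
  toFun := cf n 0
  map_one' := by rw [← map_one (cst n), cf_cst hn]
  map_zero' := cf_zero n 0
  map_add' := cf_add 0
  map_mul' u v := by
    obtain ⟨p, rfl⟩ := exists_rep u
    obtain ⟨q, rfl⟩ := exists_rep v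
    rw [← map_mul, cf_mk hn, cf_mk hn, cf_mk hn, mul_coeff_zero]

theorem cf_one_mul {n : ℕ} (hn : 1 < n) (u v : Q A n) :
    cf n 1 (u * v) = cf n 0 u * cf n 1 v + cf n 1 u * cf n 0 v := by
  obtain ⟨p, rfl⟩ := exists_rep u
  obtain ⟨q, rfl⟩ := exists_rep v
  have h0 : 0 < n := by omega
  rw [← map_mul, cf_mk hn, cf_mk h0, cf_mk hn, cf_mk hn, cf_mk h0, coeff_mul,
    show Finset.antidiagonal 1 = {((0 : ℕ), (1 : ℕ)), (1, 0)} from rfl,
    Finset.sum_pair (by decide : ((0 : ℕ), (1 : ℕ)) ≠ (1, 0))]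

/-- The coefficient of a multiple of `ε^r`. -/
theorem cf_eps_pow_mul {n r : ℕ} (hr : r < n) (w : Q A n) : cf n r (eps n ^ r * w) = cf n 0 w := by
  obtain ⟨p, rfl⟩ := exists_rep w
  rw [eps, ← map_pow, ← map_mul, cf_mk hr, cf_mk (by omega), coeff_X_pow_mul', if_pos le_rfl, Nat.sub_self]

/-- Multiplying a multiple of `ε^r` only sees constant terms. -/
theorem cf_mul_of_dvd {n r : ℕ} (hr : r < n) {u : Q A n} (hu : eps n ^ r ∣ u) (v : Q A n) :
    cf n r (u * v) = cf n r u * cf n 0 v := by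
  obtain ⟨w, rfl⟩ := hu
  rw [mul_assoc, cf_eps_pow_mul hr, cf_eps_pow_mul hr]
  exact map_mul (cf0 (n := n) (by omega)) w v

theorem eps_dvd_of_cf0 {n : ℕ} (hn : 0 < n) {u : Q A n} (hu : cf n 0 u = 0) : eps n ∣ u := by
  obtain ⟨p, rfl⟩ := exists_rep u
  rw [cf_mk hn] at hu
  exact map_dvd (Ideal.Quotient.mk _) (X_dvd_iff.2 hu)

variable {K : Type u} [CommRing K] [Algebra k K] {k}

/-- Functoriality. -/
def mapQ (n : ℕ) (g : A →ₐ[k] K) : Q A n →ₐ[k] Q K n :=
  Ideal.Quotient.liftₐ _ ((Ideal.Quotient.mkₐ k _).comp (Polynomial.mapAlgHom g)) fun a ha => by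
    obtain ⟨c, rfl⟩ := Ideal.mem_span_singleton'.1 ha
    show Ideal.Quotient.mk (Ideal.span {(X : K[X]) ^ n}) (Polynomial.map g.toRingHom (c * X ^ n)) = 0
    rw [Polynomial.map_mul, Polynomial.map_pow, Polynomial.map_X, map_mul]
    exact mul_eq_zero_of_right _ (Ideal.Quotient.eq_zero_iff_mem.2 (Ideal.subset_span rfl))

theorem cf_mapQ {n r : ℕ} (hr : r < n) (g : A →ₐ[k] K) (u : Q A n) : cf n r (mapQ n g u) = g (cf n r u) := by
  obtain ⟨p, rfl⟩ := exists_rep u
  show cf n r (Ideal.Quotient.mk (Ideal.span {(X : K[X]) ^ n}) (Polynomial.map g.toRingHom p)) = _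
  rw [cf_mk hr, cf_mk hr, coeff_map]
  rfl

theorem cf_algebraMap {n : ℕ} (hn : 0 < n) (a : k) : cf n 0 (algebraMap k (Q A n) a) = algebraMap k A a :=
  cf_cst hn _

/-- An arc with given position and velocity lifts to every order. -/
theorem exists_lift {B : Type u} [CommRing B] [Algebra k B] [Algebra.FormallySmooth k B] (φ : B →ₐ[k] A)
    (δ : B →ₗ[k] A) (hδ : ∀ b b', δ (b * b') = φ b * δ b' + φ b' * δ b) (n : ℕ) (hn : 2 ≤ n) :
    ∃ γ : B →ₐ[k] Q A n, (∀ b, cf n 0 (γ b) = φ b) ∧ ∀ b, cf n 1 (γ b) = δ b := by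
  have h1 : δ 1 = 0 := by
    have := hδ 1 1
    simp only [mul_one, map_one φ, one_mul] at this
    exact left_eq_add.1 this
  have hsq : (eps 2 : Q A 2) * eps 2 = 0 := by rw [← pow_two]; exact eps_pow 2
  let g₂ : B →ₐ[k] Q A 2 :=
    AlgHom.ofLinearMap
      { toFun := fun b => cst 2 (φ b) + cst 2 (δ b) * eps 2
        map_add' := fun b b' => by simp only [map_add]; ring
        map_smul' := fun c b => by
          rw [δ.map_smul, map_smul φ, RingHom.id_apply]
          simp only [Algebra.smul_def, map_mul, mul_add]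
          rw [show algebraMap k (Q A 2) c = cst 2 (algebraMap k A c) from rfl]
          ring }
      (by simp [h1])
      (fun b b' => by
        show cst 2 (φ (b * b')) + cst 2 (δ (b * b')) * eps 2 =
          (cst 2 (φ b) + cst 2 (δ b) * eps 2) * (cst 2 (φ b') + cst 2 (δ b') * eps 2)
        rw [map_mul, hδ, map_add, map_mul, map_mul, map_mul]
        linear_combination (-(cst 2 (δ b) * cst 2 (δ b'))) * hsq)
  have hle : Ideal.span {(X : A[X]) ^ n} ≤ Ideal.span {(X : A[X]) ^ 2} :=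
    Ideal.span_singleton_le_span_singleton.2 (pow_dvd_pow _ hn)
  let g : Q A n →ₐ[k] Q A 2 := Ideal.Quotient.factorₐ k hle
  have hg : Function.Surjective g := Ideal.Quotient.factor_surjective hle
  have hnil : IsNilpotent (RingHom.ker (g : Q A n →+* Q A 2)) := by
    refine ⟨n, le_bot_iff.1 ?_⟩
    have hker : RingHom.ker (g : Q A n →+* Q A 2) ≤ Ideal.span {(eps n : Q A n) ^ 2} := by
      intro u hu
      obtain ⟨p, rfl⟩ := exists_rep u
      have h2 : Ideal.Quotient.mk (Ideal.span {(X : A[X]) ^ 2}) p = 0 := hu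
      rw [Ideal.mem_span_singleton, eps, ← map_pow]
      exact map_dvd _ (Ideal.mem_span_singleton.1 (Ideal.Quotient.eq_zero_iff_mem.1 h2))
    refine (Ideal.pow_right_mono hker n).trans ?_
    rw [Ideal.span_singleton_pow, ← pow_mul, mul_comm 2 n, pow_mul, eps_pow, zero_pow two_ne_zero]
    simp
  let γ := Algebra.FormallySmooth.liftOfSurjective g₂ g hg hnil
  have key : ∀ (r : ℕ), r < 2 → ∀ b, cf n r (γ b) = cf 2 r (g₂ b) := fun r hr b => by
    obtain ⟨p, hp⟩ := exists_rep (γ b)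
    rw [← Algebra.FormallySmooth.liftOfSurjective_apply g₂ g hg hnil b, ← hp, cf_mk (by omega)]
    exact (cf_mk hr p).symm
  have hrep : ∀ b, g₂ b = Ideal.Quotient.mk _ (C (φ b) + C (δ b) * X) := fun b => by
    rw [map_add, map_mul]
    rfl
  refine ⟨γ, fun b => ?_, fun b => ?_⟩
  · rw [key 0 (by omega), hrep, cf_mk (by omega)]
    simp
  · rw [key 1 (by omega), hrep, cf_mk (by omega)]
    simp [coeff_C]

end Groth.L21.FreeCurve
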